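import Groth.Agent.EgaQ.SymL.Theta
import Mathlib.AlgebraicGeometry.Morphisms.Immersion

/-!
# When is `r_{L,ψ}` an immersion
-/

universe u

open CategoryTheory CategoryTheory.Limits AlgebraicGeometry TopologicalSpace Opposite
open scoped HomogeneousIdeal

noncomputable section

set_option backward.isDefEq.respectTransparency false

namespace Groth.Agent.EgaQ.SymL

variable {X Y : Scheme.{u}} {A : RelProj.QCGrAlg X} {q : X ⟶ Y} {𝒮 : RelProj.QCGrAlg Y}
  {u : RelProj.QGrHom q 𝒮 A}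
  {P : Scheme.{u}} {p : P ⟶ Y}
  {chart : ∀ (U : Y.Opens) (hU : IsAffineOpen U),
    (((p ⁻¹ᵁ U : P.Opens) : Scheme.{u}) ≅ Proj (𝒮.deg U hU))}
  {PL : Scheme.{u}} {pL : PL ⟶ X}
  {chartL : ∀ (U : X.Opens) (hU : IsAffineOpen U),
    (((pL ⁻¹ᵁ U : PL.Opens) : Scheme.{u}) ≅ Proj (A.deg U hU))}
  {r : ((RelProj.domQ u pL chartL : PL.Opens) : Scheme.{u}) ⟶ P}
  (hA : IsLine A) (hP : RelProj.IsRelProj 𝒮 p chart) (hPL : RelProj.IsRelProj A pL chartL)
  (hr : RelProj.IsProjQMapOn u p chart pL chartL (RelProj.domQ u pL chartL) r)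

instance : MorphismProperty.RespectsRight @IsImmersion.{u} @IsOpenImmersion where
  postcomp i (hi : IsOpenImmersion i) f (hf : IsImmersion f) :=
    inferInstanceAs (IsImmersion (f ≫ i))

lemma isIso_toSpecΓ {L : X.Opens} (h : IsAffineOpen L) : IsIso L.toSpecΓ := by
  rw [← h.isoSpec_hom]; infer_instance

include hA hP hPL hr in
theorem isClosedImmersion_restrict_iff {U : Y.Opens} (hU : IsAffineOpen U) {d : ℕ} (hd : 0 < d)
    {f : 𝒮.presheaf.obj (op U)} (hf : f ∈ 𝒮.deg U hU d) :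
    IsClosedImmersion (r ∣_ (RelProj.emb p chart U hU ''ᵁ Proj.basicOpen (𝒮.deg U hU) f)) ↔
      IsAffineOpen (locus u U d f) ∧ SurjCond u hU d f := by
  obtain ⟨θ, hθ, harr⟩ := exists_theta hA hP hPL hr hU hd hf
  rw [harr @IsClosedImmersion, ← surjective_iff hθ hA]
  constructor
  · intro h
    obtain ⟨h1, h2⟩ := IsClosedImmersion.isAffine_surjective_of_isAffine
      ((locus u U d f).toSpecΓ ≫ Spec.map θ)
    have hL : IsAffineOpen (locus u U d f) := h1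
    have := isIso_toSpecΓ hL
    have h3 : IsClosedImmersion (Spec.map θ) :=
      (MorphismProperty.cancel_left_of_respectsIso @IsClosedImmersion _ _).mp h
    obtain ⟨-, h4⟩ := IsClosedImmersion.isAffine_surjective_of_isAffine (Spec.map θ)
    have e := Scheme.ΓSpecIso_naturality θ
    refine ⟨hL, fun z ↦ ?_⟩
    obtain ⟨y, hy⟩ := (h4 ((Scheme.ΓSpecIso _).inv.hom z))
    refine ⟨(Scheme.ΓSpecIso _).hom.hom y, ?_⟩
    rw [← CommRingCat.comp_apply, ← e, CommRingCat.comp_apply]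
    erw [hy]
    exact (Scheme.ΓSpecIso _).inv_hom_id_apply z
  · rintro ⟨hL, hs⟩
    have := isIso_toSpecΓ hL
    exact (MorphismProperty.cancel_left_of_respectsIso @IsClosedImmersion _ _).mpr
      (IsClosedImmersion.spec_of_surjective _ hs)

include hA hP hPL hr in
theorem isIso_restrict_iff {U : Y.Opens} (hU : IsAffineOpen U) {d : ℕ} (hd : 0 < d)
    {f : 𝒮.presheaf.obj (op U)} (hf : f ∈ 𝒮.deg U hU d) :
    IsIso (r ∣_ (RelProj.emb p chart U hU ''ᵁ Proj.basicOpen (𝒮.deg U hU) f)) ↔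
      IsAffineOpen (locus u U d f) ∧ SurjCond u hU d f ∧ InjCond u hU d f := by
  obtain ⟨θ, hθ, harr⟩ := exists_theta hA hP hPL hr hU hd hf
  have h0 := harr (MorphismProperty.isomorphisms Scheme)
  simp only [MorphismProperty.isomorphisms.iff] at h0
  rw [h0, ← surjective_iff hθ hA, ← injective_iff hθ hA]
  constructor
  · intro h
    have hL : IsAffineOpen (locus u U d f) :=
      IsAffine.of_isIso ((locus u U d f).toSpecΓ ≫ Spec.map θ)
    have := isIso_toSpecΓ hL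
    have : IsIso (Spec.map θ) := IsIso.of_isIso_comp_left (locus u U d f).toSpecΓ _
    exact ⟨hL, (isIso_SpecMap_iff.mp this).2, (isIso_SpecMap_iff.mp this).1⟩
  · rintro ⟨hL, hs, hi⟩
    have := isIso_toSpecΓ hL
    have := isIso_SpecMap_iff.mpr ⟨hi, hs⟩
    infer_instance

include hA hPL in
lemma exists_point_over (htop : RelProj.domQ u pL chartL = ⊤) (x : X) :
    ∃ y : (RelProj.domQ u pL chartL).toScheme, pL ((RelProj.domQ u pL chartL).ι y) = x := by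
  have := isIso_π hA hPL
  obtain ⟨y, rfl⟩ := pL.surjective x
  exact ⟨⟨y, htop.ge trivial⟩, rfl⟩

include hA hP hPL hr in
/-- A standard open around the image of a point, over a given affine open of the base. -/
lemma exists_basicOpen_over (htop : RelProj.domQ u pL chartL = ⊤) {x : X} {U : Y.Opens}
    (hU : IsAffineOpen U) (hx : q x ∈ U) (O : P.Opens) (hO : Set.range r ⊆ O) :
    ∃ (d : ℕ) (f : 𝒮.presheaf.obj (op U)), 0 < d ∧ f ∈ 𝒮.deg U hU d ∧ x ∈ locus u U d f ∧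
      RelProj.emb p chart U hU ''ᵁ Proj.basicOpen (𝒮.deg U hU) f ≤ O := by
  obtain ⟨y, rfl⟩ := exists_point_over hA hPL htop x
  have hyU : p (r y) ∈ U := by
    rw [← Scheme.Hom.comp_apply, projQMapOn_comp hPL hP hr]
    exact hx
  obtain ⟨d, f, hd, hf, hyf, hle⟩ := exists_basicOpen_nhd (chart := chart) (O := O)
    (hO ⟨y, rfl⟩) hU hyU
  exact ⟨d, f, hd, hf, (preimage_emb_basicOpen hA hP hPL hr hU hd hf).le hyf, hle⟩

include hA hP hPL hr in
/-- Near every point the criterion holds, over a given affine open of the base. -/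
theorem exists_crit_of_isImmersion (htop : RelProj.domQ u pL chartL = ⊤) [IsImmersion r] {x : X}
    {U : Y.Opens} (hU : IsAffineOpen U) (hx : q x ∈ U) :
    ∃ (d : ℕ) (f : 𝒮.presheaf.obj (op U)), 0 < d ∧ f ∈ 𝒮.deg U hU d ∧ x ∈ locus u U d f ∧
      IsAffineOpen (locus u U d f) ∧ SurjCond u hU d f := by
  obtain ⟨O', Z, hO', hZ, hrange⟩ := r.isLocallyClosed_range
  obtain ⟨d, f, hd, hf, hxf, hle⟩ := exists_basicOpen_over hA hP hPL hr htop hU hx ⟨O', hO'⟩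
    (hrange.trans_subset Set.inter_subset_left)
  refine ⟨d, f, hd, hf, hxf, (isClosedImmersion_restrict_iff hA hP hPL hr hU hd hf).mp ?_⟩
  refine IsClosedImmersion.of_isPreimmersion _ ?_
  set O := RelProj.emb p chart U hU ''ᵁ Proj.basicOpen (𝒮.deg U hU) f
  have : Set.range (r ∣_ O) = O.ι ⁻¹' Z := by
    ext z
    constructor
    · rintro ⟨w, rfl⟩
      show O.ι ((r ∣_ O) w) ∈ Z
      rw [← Scheme.Hom.comp_apply, morphismRestrict_ι, Scheme.Hom.comp_apply]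
      exact (hrange.le ⟨_, rfl⟩).2
    · intro hz
      obtain ⟨w, hw⟩ := hrange.ge ⟨hle z.2, hz⟩
      refine ⟨⟨w, show r w ∈ O from hw ▸ z.2⟩, O.ι.isOpenEmbedding.injective ?_⟩
      rw [← Scheme.Hom.comp_apply, morphismRestrict_ι]
      exact hw
  rw [this]
  exact hZ.preimage O.ι.continuous

include hA hP hPL hr in
theorem exists_crit_of_isOpenImmersion (htop : RelProj.domQ u pL chartL = ⊤) [IsOpenImmersion r]
    {x : X} {U : Y.Opens} (hU : IsAffineOpen U) (hx : q x ∈ U) :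
    ∃ (d : ℕ) (f : 𝒮.presheaf.obj (op U)), 0 < d ∧ f ∈ 𝒮.deg U hU d ∧ x ∈ locus u U d f ∧
      IsAffineOpen (locus u U d f) ∧ SurjCond u hU d f ∧ InjCond u hU d f := by
  obtain ⟨d, f, hd, hf, hxf, hle⟩ :=
    exists_basicOpen_over hA hP hPL hr htop hU hx r.opensRange (by simp)
  refine ⟨d, f, hd, hf, hxf, (isIso_restrict_iff hA hP hPL hr hU hd hf).mp ?_⟩
  set O := RelProj.emb p chart U hU ''ᵁ Proj.basicOpen (𝒮.deg U hU) f
  rw [AlgebraicGeometry.isIso_iff_isOpenImmersion_and_surjective]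
  refine ⟨inferInstance, ⟨fun z ↦ ?_⟩⟩
  obtain ⟨w, hw⟩ := hle z.2
  refine ⟨⟨w, show r w ∈ O from hw ▸ z.2⟩, O.ι.isOpenEmbedding.injective ?_⟩
  rw [← Scheme.Hom.comp_apply, morphismRestrict_ι]
  exact hw

include hA hP hPL hr in
lemma range_subset_iSup {ι : Type*} (U : ι → Y.Opens) (hU : ∀ a, IsAffineOpen (U a)) (d : ι → ℕ)
    (hd : ∀ a, 0 < d a) (f : ∀ a, 𝒮.presheaf.obj (op (U a)))
    (hf : ∀ a, f a ∈ 𝒮.deg (U a) (hU a) (d a)) (hcov : ∀ x, ∃ a, x ∈ locus u (U a) (d a) (f a)) :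
    Set.range r ⊆ (⨆ a, RelProj.emb p chart (U a) (hU a) ''ᵁ
      Proj.basicOpen (𝒮.deg (U a) (hU a)) (f a) : P.Opens) := by
  rintro _ ⟨y, rfl⟩
  obtain ⟨a, ha⟩ := hcov (((RelProj.domQ u pL chartL).ι ≫ pL) y)
  exact Opens.mem_iSup.mpr ⟨a, (preimage_emb_basicOpen hA hP hPL hr (hU a) (hd a) (hf a)).ge ha⟩

include hA hP hPL hr in
theorem isImmersion_of_crit {ι : Type u} (U : ι → Y.Opens) (hU : ∀ a, IsAffineOpen (U a))
    (d : ι → ℕ) (hd : ∀ a, 0 < d a) (f : ∀ a, 𝒮.presheaf.obj (op (U a)))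
    (hf : ∀ a, f a ∈ 𝒮.deg (U a) (hU a) (d a)) (hcov : ∀ x, ∃ a, x ∈ locus u (U a) (d a) (f a))
    (haff : ∀ a, IsAffineOpen (locus u (U a) (d a) (f a)))
    (hs : ∀ a, SurjCond u (hU a) (d a) (f a)) :
    RelProj.domQ u pL chartL = ⊤ ∧ IsImmersion r := by
  refine ⟨domQ_eq_top_of_exists hA hPL fun x ↦ ?_, ?_⟩
  · obtain ⟨a, ha⟩ := hcov x
    exact ⟨U a, hU a, d a, f a, hd a, hf a, ha⟩
  refine IsZariskiLocalAtTarget.of_range_subset_iSup _
    (range_subset_iSup hA hP hPL hr U hU d hd f hf hcov) fun a ↦ ?_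
  have := (isClosedImmersion_restrict_iff hA hP hPL hr (hU a) (hd a) (hf a)).mpr ⟨haff a, hs a⟩
  infer_instance

include hA hP hPL hr in
theorem isOpenImmersion_of_crit {ι : Type u} (U : ι → Y.Opens) (hU : ∀ a, IsAffineOpen (U a))
    (d : ι → ℕ) (hd : ∀ a, 0 < d a) (f : ∀ a, 𝒮.presheaf.obj (op (U a)))
    (hf : ∀ a, f a ∈ 𝒮.deg (U a) (hU a) (d a)) (hcov : ∀ x, ∃ a, x ∈ locus u (U a) (d a) (f a))
    (haff : ∀ a, IsAffineOpen (locus u (U a) (d a) (f a)))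
    (hs : ∀ a, SurjCond u (hU a) (d a) (f a)) (hi : ∀ a, InjCond u (hU a) (d a) (f a)) :
    RelProj.domQ u pL chartL = ⊤ ∧ IsOpenImmersion r := by
  refine ⟨(isImmersion_of_crit hA hP hPL hr U hU d hd f hf hcov haff hs).1, ?_⟩
  refine IsZariskiLocalAtTarget.of_range_subset_iSup _
    (range_subset_iSup hA hP hPL hr U hU d hd f hf hcov) fun a ↦ ?_
  have := (isIso_restrict_iff hA hP hPL hr (hU a) (hd a) (hf a)).mpr ⟨haff a, hs a, hi a⟩
  infer_instance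

include hA hP hPL hr in
theorem isClosedImmersion_of_crit {ι : Type u} (U : ι → Y.Opens) (hU : ∀ a, IsAffineOpen (U a))
    (d : ι → ℕ) (hd : ∀ a, 0 < d a) (f : ∀ a, 𝒮.presheaf.obj (op (U a)))
    (hf : ∀ a, f a ∈ 𝒮.deg (U a) (hU a) (d a))
    (hP' : (⨆ a, RelProj.emb p chart (U a) (hU a) ''ᵁ
      Proj.basicOpen (𝒮.deg (U a) (hU a)) (f a)) = ⊤)
    (haff : ∀ a, IsAffineOpen (locus u (U a) (d a) (f a)))
    (hs : ∀ a, SurjCond u (hU a) (d a) (f a)) : IsClosedImmersion r :=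
  (IsZariskiLocalAtTarget.iff_of_iSup_eq_top _ hP').mpr fun a ↦
    (isClosedImmersion_restrict_iff hA hP hPL hr (hU a) (hd a) (hf a)).mpr ⟨haff a, hs a⟩

lemma iSup_emb_top {ι : Type*} (hY : IsAffineOpen (⊤ : Y.Opens))
    (f : ι → 𝒮.presheaf.obj (op ⊤)) :
    (⨆ a, RelProj.emb p chart ⊤ hY ''ᵁ Proj.basicOpen (𝒮.deg ⊤ hY) (f a)) = ⊤ ↔
      (⨆ a, Proj.basicOpen (𝒮.deg ⊤ hY) (f a)) = ⊤ := by
  rw [← Scheme.Hom.image_iSup]
  have h : RelProj.emb p chart ⊤ hY ''ᵁ ⊤ = ⊤ := by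
    rw [Scheme.Hom.image_top_eq_opensRange, RelTildeX.opensRange_emb]; rfl
  conv_lhs => rw [← h]
  exact ⟨fun e ↦ Scheme.Hom.image_injective _ e, fun e ↦ by rw [e]⟩

end Groth.Agent.EgaQ.SymL
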