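import Groth.Agent.EgaQ.Rel2
import Groth.Agent.Eg2Sym.Graded
import Groth.Agent.InvX.Frame

/-!
# The graded symmetric algebra of an invertible module over a frame
-/

universe u

open CategoryTheory CategoryTheory.Limits AlgebraicGeometry TopologicalSpace Opposite
open scoped HomogeneousIdeal Polynomial

noncomputable section

set_option backward.isDefEq.respectTransparency false

namespace Groth.Agent.EgaQ.SymL

variable {X : Scheme.{u}}

/-- Restriction of sections of a graded algebra. -/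
abbrev resA (A : RelProj.QCGrAlg X) {U V : X.Opens} (h : V ≤ U) :
    A.presheaf.obj (op U) →+* A.presheaf.obj (op V) :=
  (A.presheaf.map (homOfLE h).op).hom

/-- The structure map on sections. -/
abbrev strA (A : RelProj.QCGrAlg X) (U : X.Opens) : Γ(X, U) →+* A.presheaf.obj (op U) :=
  (A.str.app (op U)).hom

lemma resA_resA (A : RelProj.QCGrAlg X) {U V W : X.Opens} (h : V ≤ U) (h' : W ≤ V)
    (a : A.presheaf.obj (op U)) : resA A h' (resA A h a) = resA A (h'.trans h) a :=
  (ConcreteCategory.congr_hom (A.presheaf.map_comp (homOfLE h).op (homOfLE h').op) a).symm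

lemma resA_strA (A : RelProj.QCGrAlg X) {U V : X.Opens} (h : V ≤ U) (r : Γ(X, U)) :
    resA A h (strA A U r) = strA A V ((X.presheaf.map (homOfLE h).op).hom r) :=
  Eg2Sym.str_res A.toQCAlg (homOfLE h) r

lemma resA_self (A : RelProj.QCGrAlg X) {U : X.Opens} (a : A.presheaf.obj (op U)) :
    resA A le_rfl a = a := by
  show (A.presheaf.map (homOfLE le_rfl).op).hom a = a
  rw [Subsingleton.elim (homOfLE (le_refl U)) (𝟙 U), op_id, A.presheaf.map_id]
  rfl

/-- Over `V`, the algebra is `O(V)[ℓ]` with `ℓ` of degree one. -/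
structure IsLineAt (A : RelProj.QCGrAlg X) (V : X.Opens) (hV : IsAffineOpen V)
    (ℓ : A.presheaf.obj (op V)) : Prop where
  mem : ℓ ∈ A.deg V hV 1
  exists_coef : ∀ d, ∀ a ∈ A.deg V hV d, ∃ c, a = strA A V c * ℓ ^ d
  coef_inj : ∀ d c, strA A V c * ℓ ^ d = 0 → c = 0

/-- Near every point, on every smaller affine open, the algebra is `O[ℓ]`. -/
def IsLine (A : RelProj.QCGrAlg X) : Prop :=
  ∀ x : X, ∃ (O : X.Opens) (ℓ : A.presheaf.obj (op O)), x ∈ O ∧
    ∀ (V : X.Opens) (hV : IsAffineOpen V) (h : V ≤ O), IsLineAt A V hV (resA A h ℓ)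

variable {A : RelProj.QCGrAlg X}

lemma IsLineAt.mem_pow {V : X.Opens} {hV : IsAffineOpen V} {ℓ : A.presheaf.obj (op V)}
    (h : IsLineAt A V hV ℓ) (d : ℕ) : ℓ ^ d ∈ A.deg V hV d := by
  simpa using SetLike.pow_mem_graded d h.mem

lemma IsLineAt.mem_str {V : X.Opens} {hV : IsAffineOpen V} {ℓ : A.presheaf.obj (op V)}
    (h : IsLineAt A V hV ℓ) (d : ℕ) (c : Γ(X, V)) : strA A V c * ℓ ^ d ∈ A.deg V hV d := by
  simpa using SetLike.mul_mem_graded (A.str_mem V hV c) (h.mem_pow d)

lemma IsLineAt.coef_unique {V : X.Opens} {hV : IsAffineOpen V} {ℓ : A.presheaf.obj (op V)}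
    (h : IsLineAt A V hV ℓ) {d : ℕ} {c c' : Γ(X, V)}
    (e : strA A V c * ℓ ^ d = strA A V c' * ℓ ^ d) : c = c' := by
  refine sub_eq_zero.mp (h.coef_inj d _ ?_)
  rw [map_sub, sub_mul, e, sub_self]

lemma IsLine.exists_nhd (hA : IsLine A) (x : X) {W : X.Opens} (hx : x ∈ W) :
    ∃ (V : X.Opens) (hV : IsAffineOpen V) (ℓ : A.presheaf.obj (op V)),
      x ∈ V ∧ V ≤ W ∧ IsLineAt A V hV ℓ := by
  obtain ⟨O, ℓ, hxO, h⟩ := hA x
  obtain ⟨_, ⟨V, hV, rfl⟩, hxV, hVW⟩ :=
    X.isBasis_affineOpens.exists_subset_of_mem_open (show x ∈ W ⊓ O from ⟨hx, hxO⟩) (W ⊓ O).isOpen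
  exact ⟨V, hV, _, hxV, fun y hy ↦ (hVW hy).1, h V hV fun y hy ↦ (hVW hy).2⟩

section frame

variable {L : X.Modules} {j : L ⟶ A.toModule}

theorem isLineAt_of_frame (hLq : Coh.IsQCoh L) (hj : RelProj.IsGrSymAlg L A j) {V : X.Opens}
    (hV : IsAffineOpen V) {e : Γ(L, V)} (he : InvX.IsFrame e) :
    IsLineAt A V hV (Eg2Sym.jApp (A := A.toQCAlg) j V e) := by
  have hres : AModX.res L (le_refl V) e = e := AModX.res_self e
  have hco : ∀ x : Γ(L, V), ∃! r : Γ(X, V), x = r • e := fun x ↦ by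
    obtain ⟨r, hr⟩ := he.exists_coord le_rfl x
    rw [hres] at hr
    exact ⟨r, hr, fun r' hr' ↦ he.coord_unique le_rfl (by rw [hres]; exact hr'.symm.trans hr)⟩
  choose co hco hcu using hco
  let f : Γ(L, V) →+ Γ(X, V)[X] :=
    AddMonoidHom.mk' (fun x ↦ Polynomial.C (co x) * Polynomial.X) fun x y ↦ by
      rw [← add_mul, ← map_add, ← hcu (x + y) (co x + co y) (by dsimp only; rw [add_smul]; exact congrArg₂ (· + ·) (hco x) (hco y))]
  obtain ⟨g, hgs, hgj⟩ := (Eg2Sym.isAffSymAt_gr hLq hj hV).exists_lift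
    (R := CommRingCat.of Γ(X, V)[X]) Polynomial.C f fun r x ↦ by
      show Polynomial.C (co (r • x)) * Polynomial.X = _
      rw [← hcu (r • x) (r * co x) (by dsimp only; rw [mul_smul]; exact congrArg _ (hco x)), map_mul, mul_assoc]
      rfl
  let ℓ := Eg2Sym.jApp (A := A.toQCAlg) j V e
  let back := Polynomial.eval₂RingHom (strA A V) ℓ
  have hid : g ≫ CommRingCat.ofHom back = 𝟙 _ := by
    refine (Eg2Sym.isAffSymAt_gr hLq hj hV).ext _ _ (fun r ↦ ?_) fun x ↦ ?_
    · show back (g.hom _) = _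
      rw [hgs]
      exact Polynomial.eval₂_C _ _
    · show back (g.hom _) = _
      rw [hgj]
      show Polynomial.eval₂ (strA A V) ℓ (Polynomial.C (co x) * Polynomial.X) =
        Eg2Sym.jApp (A := A.toQCAlg) j V x
      rw [Polynomial.eval₂_mul, Polynomial.eval₂_C, Polynomial.eval₂_X]
      conv_rhs => rw [hco x]
      exact (Eg2Sym.jApp_smul (A := A.toQCAlg) j V _ _).symm
  have hℓ : ℓ ∈ A.deg V hV 1 := hj.2 V hV e
  have hpow : ∀ (i : ℕ) (c : Γ(X, V)), strA A V c * ℓ ^ i ∈ A.deg V hV i := fun i c ↦ by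
    simpa using SetLike.mul_mem_graded (A.str_mem V hV c) (SetLike.pow_mem_graded i hℓ)
  have hgℓ : g.hom ℓ = Polynomial.X := by
    rw [hgj]
    show Polynomial.C (co e) * Polynomial.X = Polynomial.X
    rw [← hcu e 1 (one_smul _ e).symm, map_one, one_mul]
  refine ⟨hℓ, fun d a ha ↦ ?_, fun d c hc ↦ ?_⟩
  · have ha' : back (g.hom a) = a := ConcreteCategory.congr_hom hid a
    refine ⟨(g.hom a).coeff d, ?_⟩
    classical
    have key : ∀ P : Γ(X, V)[X], (DirectSum.decompose (A.deg V hV) (back P) d : A.presheaf.obj (op V))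
        = strA A V (P.coeff d) * ℓ ^ d := fun P ↦ by
      induction P using Polynomial.induction_on' with
      | add P Q hP hQ =>
        rw [map_add, DirectSum.decompose_add, DirectSum.add_apply, AddSubgroup.coe_add, hP, hQ,
          Polynomial.coeff_add, map_add, add_mul]
      | monomial i c =>
        rw [show back (Polynomial.monomial i c) = strA A V c * ℓ ^ i from Polynomial.eval₂_monomial _ _,
          Polynomial.coeff_monomial]
        split_ifs with hid'
        · subst hid'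
          exact DirectSum.decompose_of_mem_same _ (hpow i c)
        · rw [map_zero, zero_mul]
          exact DirectSum.decompose_of_mem_ne _ (hpow i c) hid'
    rw [← key, ha', DirectSum.decompose_of_mem_same _ ha]
  · have := congrArg g.hom hc
    rw [map_mul, map_pow, hgℓ, hgs, map_zero, Polynomial.C_mul_X_pow_eq_monomial] at this
    simpa using this

theorem isLine (hL : PicF.IsInvertible L) (hLq : Coh.IsQCoh L) (hj : RelProj.IsGrSymAlg L A j) :
    IsLine A := by
  intro x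
  obtain ⟨O, hxO, e, he⟩ := InvX.exists_frame hL x
  refine ⟨O, Eg2Sym.jApp (A := A.toQCAlg) j O e, hxO, fun V hV h ↦ ?_⟩
  have := isLineAt_of_frame hLq hj hV (he.res h)
  rwa [show resA A h (Eg2Sym.jApp (A := A.toQCAlg) j O e) =
    Eg2Sym.jApp (A := A.toQCAlg) j V (AModX.res L h e) from
      Eg2Sym.jApp_res (A := A.toQCAlg) j (homOfLE h) e]

end frame

section proj

variable {V : X.Opens} {hV : IsAffineOpen V} {ℓ : A.presheaf.obj (op V)}

lemma IsLineAt.basicOpen_eq_top (h : IsLineAt A V hV ℓ) :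
    Proj.basicOpen (A.deg V hV) ℓ = ⊤ := by
  refine eq_top_iff.mpr fun z _ hz ↦ z.not_irrelevant_le ?_
  rw [HomogeneousIdeal.irrelevant_le]
  intro i hi a ha
  obtain ⟨c, rfl⟩ := h.exists_coef i a ha
  exact Ideal.mul_mem_left _ _ (Ideal.pow_mem_of_mem _ hz i hi)

/-- Functions on `V` as the degree-zero part of the localisation at `g`. -/
def awayStr (A : RelProj.QCGrAlg X) {V : X.Opens} (hV : IsAffineOpen V) (g : A.presheaf.obj (op V)) :
    Γ(X, V) ⟶ CommRingCat.of (HomogeneousLocalization.Away (A.deg V hV) g) :=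
  A.strZero V hV ≫ CommRingCat.ofHom (HomogeneousLocalization.fromZeroRingHom (A.deg V hV) _)

lemma awayStr_val (g : A.presheaf.obj (op V)) (c : Γ(X, V)) :
    ((awayStr A hV g).hom c).val = algebraMap _ (Localization (Submonoid.powers g)) (strA A V c) := by
  show HomogeneousLocalization.val _ = _
  rw [← Localization.mk_one_eq_algebraMap]
  rfl

lemma IsLineAt.awayStr_bijective (h : IsLineAt A V hV ℓ) :
    Function.Bijective (awayStr A hV ℓ).hom := by
  constructor
  · rw [injective_iff_map_eq_zero]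
    intro c hc
    have := congrArg HomogeneousLocalization.val hc
    rw [awayStr_val, HomogeneousLocalization.val_zero, IsLocalization.map_eq_zero_iff
      (Submonoid.powers ℓ)] at this
    obtain ⟨⟨_, k, rfl⟩, hk⟩ := this
    exact h.coef_inj k c (by rw [mul_comm]; exact hk)
  · intro x
    obtain ⟨n, a, ha, rfl⟩ := HomogeneousLocalization.Away.mk_surjective (A.deg V hV) h.mem x
    obtain ⟨c, hc⟩ := h.exists_coef n a (by simpa using ha)
    refine ⟨c, HomogeneousLocalization.val_injective _ ?_⟩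
    rw [awayStr_val, HomogeneousLocalization.Away.val_mk, ← Localization.mk_one_eq_algebraMap,
      Localization.mk_eq_mk_iff, Localization.r_iff_exists]
    exact ⟨1, by simp [hc, mul_comm]⟩

variable {P : Scheme.{u}} {p : P ⟶ X}
  {chart : ∀ (U : X.Opens) (hU : IsAffineOpen U),
    (((p ⁻¹ᵁ U : P.Opens) : Scheme.{u}) ≅ Proj (A.deg U hU))}

lemma awayι_emb_π (hP : RelProj.IsRelProj A p chart) {g : A.presheaf.obj (op V)} {d : ℕ}
    (hg : g ∈ A.deg V hV d) (hd : 0 < d) :
    Proj.awayι (A.deg V hV) g hg hd ≫ RelProj.emb p chart V hV ≫ p =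
      Spec.map (awayStr A hV g) ≫ hV.fromSpec := by
  rw [emb_π hP, Proj.awayι_toSpecZero_assoc, ← Spec.map_comp_assoc]
  rfl

lemma IsLineAt.isIso_awayι (h : IsLineAt A V hV ℓ) :
    IsIso (Proj.awayι (A.deg V hV) ℓ h.mem one_pos) := by
  rw [AlgebraicGeometry.isIso_iff_isOpenImmersion_and_surjective]
  refine ⟨inferInstance, ⟨fun z ↦ ?_⟩⟩
  exact ((Proj.opensRange_awayι (A.deg V hV) ℓ h.mem one_pos).trans h.basicOpen_eq_top).ge
    (Set.mem_univ z)

/-- The structure morphism of `Proj(O[ℓ])` is an isomorphism. -/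
theorem isIso_π (hA : IsLine A) (hP : RelProj.IsRelProj A p chart) : IsIso p := by
  let 𝒱 : X.affineOpens → Prop := fun V ↦ ∃ ℓ, IsLineAt A V.1 V.2 ℓ
  show MorphismProperty.isomorphisms _ p
  rw [IsZariskiLocalAtTarget.iff_of_iSup_eq_top (P := MorphismProperty.isomorphisms Scheme)
    (fun V : {V // 𝒱 V} ↦ V.1.1) (eq_top_iff.mpr fun x _ ↦ by
      obtain ⟨V, hV, ℓ, hx, -, h⟩ := hA.exists_nhd x (W := ⊤) trivial
      exact Opens.mem_iSup.mpr ⟨⟨⟨V, hV⟩, ℓ, h⟩, hx⟩)]
  rintro ⟨⟨V, hV⟩, ℓ, h⟩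
  have := h.isIso_awayι
  have : IsIso (awayStr A hV ℓ) :=
    (ConcreteCategory.isIso_iff_bijective _).mpr h.awayStr_bijective
  let e := Proj.awayι (A.deg V hV) ℓ h.mem one_pos ≫ (chart V hV).inv
  show IsIso (p ∣_ V)
  have key : e ≫ (p ∣_ V) = Spec.map (awayStr A hV ℓ) ≫ hV.isoSpec.inv := by
    rw [← cancel_mono V.ι, Category.assoc, morphismRestrict_ι, Category.assoc]
    simp only [IsAffineOpen.isoSpec_inv_ι, Category.assoc]
    exact awayι_emb_π hP h.mem one_pos
  have : IsIso (e ≫ (p ∣_ V)) := key ▸ inferInstance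
  exact IsIso.of_isIso_comp_left e _

end proj

end Groth.Agent.EgaQ.SymL
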