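import Groth.Agent.EgaQ.SymL.Line

/-!
# Where a section does not vanish
-/

universe u

open CategoryTheory CategoryTheory.Limits AlgebraicGeometry TopologicalSpace Opposite
open scoped HomogeneousIdeal

noncomputable section

set_option backward.isDefEq.respectTransparency false

namespace Groth.Agent.EgaQ.SymL

variable {X : Scheme.{u}} {A : RelProj.QCGrAlg X}

lemma exists_deg_mul {U : X.Opens} (hU : IsAffineOpen U) (r : Γ(X, U)) {d : ℕ}
    {a : A.presheaf.obj (op (X.basicOpen r))} (ha : a ∈ A.deg (X.basicOpen r) (hU.basicOpen r) d) :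
    ∃ (k : ℕ) (x : A.presheaf.obj (op U)), x ∈ A.deg U hU d ∧
      a * resA A (X.basicOpen_le r) (strA A U r ^ k) = resA A (X.basicOpen_le r) x := by
  classical
  letI := (resA A (X.basicOpen_le r)).toAlgebra
  have hloc : IsLocalization.Away (strA A U r) (A.presheaf.obj (op (X.basicOpen r))) := A.isQC U hU r
  obtain ⟨⟨x, _, k, rfl⟩, hx⟩ := IsLocalization.surj (Submonoid.powers (strA A U r)) a
  change a * resA A (X.basicOpen_le r) (strA A U r ^ k) = resA A (X.basicOpen_le r) x at hx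
  refine ⟨k, _, (DirectSum.decompose (A.deg U hU) x d).2, ?_⟩
  let ψ := A.res hU (hU.basicOpen r) (X.basicOpen_le r)
  have hc : resA A (X.basicOpen_le r) (strA A U r ^ k) ∈ A.deg (X.basicOpen r) (hU.basicOpen r) 0 := by
    rw [map_pow]
    have := SetLike.pow_mem_graded k (ψ.map_mem (A.str_mem U hU r))
    rwa [smul_zero] at this
  show _ = ψ _
  rw [GradedRingHom.map_directSumDecompose, show ψ x = resA A (X.basicOpen_le r) x from rfl, ← hx,
    DirectSum.decompose_of_mem_same]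
  simpa using SetLike.mul_mem_graded ha hc

theorem IsLineAt.basicOpen {V : X.Opens} {hV : IsAffineOpen V} {ℓ : A.presheaf.obj (op V)}
    (h : IsLineAt A V hV ℓ) (r : Γ(X, V)) :
    IsLineAt A (X.basicOpen r) (hV.basicOpen r) (resA A (X.basicOpen_le r) ℓ) := by
  let ρ := resA A (X.basicOpen_le r)
  have hrunit : IsUnit ((X.presheaf.map (homOfLE (X.basicOpen_le r)).op).hom r) :=
    RingedSpace.isUnit_res_basicOpen _ r
  refine ⟨A.map_mem hV _ _ h.mem, fun d a ha ↦ ?_, fun d c hc ↦ ?_⟩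
  · obtain ⟨k, x, hx, hxa⟩ := exists_deg_mul hV r ha
    obtain ⟨e, rfl⟩ := h.exists_coef d x hx
    obtain ⟨w, hw⟩ := (hrunit.pow k).exists_left_inv
    refine ⟨w * (X.presheaf.map (homOfLE (X.basicOpen_le r)).op).hom e, ?_⟩
    rw [map_pow, map_mul, resA_strA, resA_strA, ← map_pow] at hxa
    rw [map_pow (resA A (X.basicOpen_le r)) ℓ] at hxa
    rw [map_mul, mul_assoc, ← hxa, mul_left_comm, ← map_mul, hw, map_one, mul_one]
  · have := hV.isLocalization_basicOpen r
    obtain ⟨⟨e, _, k, rfl⟩, he⟩ := IsLocalization.surj (Submonoid.powers r) c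
    change c * (X.presheaf.map (homOfLE (X.basicOpen_le r)).op).hom (r ^ k) =
      (X.presheaf.map (homOfLE (X.basicOpen_le r)).op).hom e at he
    have h0 : ρ (strA A V e * ℓ ^ d) = 0 := by
      rw [map_mul, resA_strA, ← he, map_mul, map_pow ρ, mul_right_comm, hc, zero_mul]
    letI := ρ.toAlgebra
    have hloc : IsLocalization.Away (strA A V r) (A.presheaf.obj (op (X.basicOpen r))) :=
      A.isQC V hV r
    obtain ⟨⟨_, m, rfl⟩, hm⟩ := (IsLocalization.map_eq_zero_iff (Submonoid.powers (strA A V r)) _ _).mp h0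
    dsimp only at hm
    rw [← mul_assoc, ← map_pow, ← map_mul] at hm
    have h1 := congrArg (X.presheaf.map (homOfLE (X.basicOpen_le r)).op).hom (h.coef_inj d _ hm)
    rw [map_zero, map_mul, ← he, map_pow, map_pow] at h1
    rw [mul_left_comm] at h1
    exact (hrunit.pow m).mul_right_eq_zero.mp
      ((hrunit.pow k).mul_right_eq_zero.mp (by rw [← h1]; ring))

lemma IsLineAt.isUnit_of_span {V : X.Opens} {hV : IsAffineOpen V} {ℓ : A.presheaf.obj (op V)}
    (h : IsLineAt A V hV ℓ) {d : ℕ} {c : Γ(X, V)}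
    (hs : ℓ ^ d ∈ Ideal.span {strA A V c * ℓ ^ d}) : IsUnit c := by
  classical
  obtain ⟨b, hb⟩ := Ideal.mem_span_singleton'.mp hs
  have h1 := congrArg (fun z ↦ (DirectSum.decompose (A.deg V hV) z d : A.presheaf.obj (op V))) hb
  dsimp only at h1
  rw [mul_comm b, DirectSum.coe_decompose_mul_of_left_mem_of_le _ (h.mem_str d c) le_rfl,
    Nat.sub_self, DirectSum.decompose_of_mem_same _ (h.mem_pow d)] at h1
  obtain ⟨e, he⟩ := h.exists_coef 0 _ (DirectSum.decompose (A.deg V hV) b 0).2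
  rw [he, pow_zero, mul_one, mul_right_comm, ← map_mul] at h1
  exact IsUnit.of_mul_eq_one e (h.coef_unique (h1.trans (by rw [map_one, one_mul])))

lemma IsLineAt.deg_subset_span {V : X.Opens} {hV : IsAffineOpen V} {ℓ : A.presheaf.obj (op V)}
    (h : IsLineAt A V hV ℓ) {d : ℕ} {c : Γ(X, V)} (hc : IsUnit c) :
    (A.deg V hV d : Set (A.presheaf.obj (op V))) ⊆
      (Ideal.span {strA A V c * ℓ ^ d} : Set (A.presheaf.obj (op V))) := by
  intro a ha
  obtain ⟨e, rfl⟩ := h.exists_coef d a ha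
  obtain ⟨w, hw⟩ := hc.exists_left_inv
  refine Ideal.mem_span_singleton'.mpr ⟨strA A V (e * w), ?_⟩
  rw [← mul_assoc, ← map_mul, mul_assoc, hw, mul_one]

variable {Y : Scheme.{u}} {q : X ⟶ Y} {𝒮 : RelProj.QCGrAlg Y} (u : RelProj.QGrHom q 𝒮 A)

/-- The open where `u f` does not vanish. -/
def locus (U : Y.Opens) (d : ℕ) (f : 𝒮.presheaf.obj (op U)) : X.Opens :=
  ⨆ V : {V : X.affineOpens // ∃ h : (V : X.Opens) ≤ q ⁻¹ᵁ U,
    (A.deg V.1 V.2 d : Set (A.presheaf.obj (op (V.1 : X.Opens)))) ⊆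
      (Ideal.span {(u.appLE U V.1 h).hom f} : Set (A.presheaf.obj (op (V.1 : X.Opens))))},
    (V.1.1 : X.Opens)

lemma locus_le (U : Y.Opens) (d : ℕ) (f : 𝒮.presheaf.obj (op U)) : locus u U d f ≤ q ⁻¹ᵁ U :=
  iSup_le fun V ↦ V.2.1

lemma locus_top (d : ℕ) (f : 𝒮.presheaf.obj (op ⊤)) :
    (⨆ V : {V : X.affineOpens //
        ((A.deg V.1 V.2 d : AddSubgroup (A.presheaf.obj (op (V.1 : X.Opens)))) :
          Set (A.presheaf.obj (op (V.1 : X.Opens)))) ⊆
        (Ideal.span {(u.appLE ⊤ (V.1 : X.Opens) (le_top.trans (Scheme.Hom.preimage_top q).ge)).hom f} :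
          Set (A.presheaf.obj (op (V.1 : X.Opens))))}, (V.1.1 : X.Opens)) = locus u ⊤ d f :=
  le_antisymm (iSup_le fun V ↦ le_iSup_of_le ⟨V.1, _, V.2⟩ le_rfl)
    (iSup_le fun V ↦ le_iSup_of_le ⟨V.1, V.2.2⟩ le_rfl)

lemma mem_locus {U : Y.Opens} {d : ℕ} {f : 𝒮.presheaf.obj (op U)} {x : X} :
    x ∈ locus u U d f ↔ ∃ (V : X.Opens) (hV : IsAffineOpen V) (h : V ≤ q ⁻¹ᵁ U), x ∈ V ∧
      (A.deg V hV d : Set (A.presheaf.obj (op V))) ⊆
        (Ideal.span {(u.appLE U V h).hom f} : Set (A.presheaf.obj (op V))) := by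
  rw [locus, Opens.mem_iSup]
  constructor
  · rintro ⟨⟨V, h, hs⟩, hx⟩; exact ⟨V.1, V.2, h, hx, hs⟩
  · rintro ⟨V, hV, h, hx, hs⟩; exact ⟨⟨⟨V, hV⟩, h, hs⟩, hx⟩

lemma appLE_res {U : Y.Opens} {V W : X.Opens} (h : V ≤ q ⁻¹ᵁ U) (i : W ≤ V)
    (f : 𝒮.presheaf.obj (op U)) :
    resA A i ((u.appLE U V h).hom f) = (u.appLE U W (i.trans h)).hom f :=
  ConcreteCategory.congr_hom (u.appLE_map h i) f

lemma appLE_str {U : Y.Opens} {V : X.Opens} (h : V ≤ q ⁻¹ᵁ U) (r : Γ(Y, U)) :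
    (u.appLE U V h).hom (strA 𝒮 U r) = strA A V ((q.appLE U V h).hom r) := by
  show resA A h ((u.app U).hom (strA 𝒮 U r)) = _
  rw [show (u.app U).hom (strA 𝒮 U r) = strA A _ ((q.app U).hom r) from
    ConcreteCategory.congr_hom (u.str_app U) r, resA_strA]
  rfl

lemma exists_coef_appLE {U : Y.Opens} (hU : IsAffineOpen U) {V : X.Opens} {hV : IsAffineOpen V}
    {ℓ : A.presheaf.obj (op V)} (hl : IsLineAt A V hV ℓ) (h : V ≤ q ⁻¹ᵁ U) {d : ℕ}
    {f : 𝒮.presheaf.obj (op U)} (hf : f ∈ 𝒮.deg U hU d) :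
    ∃ c, (u.appLE U V h).hom f = strA A V c * ℓ ^ d :=
  hl.exists_coef d _ (u.map_mem U hU V hV h hf)

/-- Over a frame the locus is where the coefficient is invertible. -/
theorem mem_locus_iff {U : Y.Opens} {V : X.Opens} {hV : IsAffineOpen V}
    {ℓ : A.presheaf.obj (op V)} (hl : IsLineAt A V hV ℓ) (h : V ≤ q ⁻¹ᵁ U) {d : ℕ}
    {f : 𝒮.presheaf.obj (op U)} {c : Γ(X, V)}
    (hc : (u.appLE U V h).hom f = strA A V c * ℓ ^ d) {x : X} (hx : x ∈ V) :
    x ∈ locus u U d f ↔ x ∈ X.basicOpen c := by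
  constructor
  · intro hxl
    obtain ⟨V', hV', h', hx', hs⟩ := (mem_locus u).mp hxl
    obtain ⟨r, s, hrs, hxD⟩ := exists_basicOpen_le_affine_inter hV hV' x ⟨hx, hx'⟩
    have hD := hl.basicOpen r
    let D := X.basicOpen r
    have hDV' : D ≤ V' := hrs.le.trans (X.basicOpen_le s)
    suffices IsUnit ((X.presheaf.map (homOfLE (X.basicOpen_le r)).op).hom c) by
      refine RingedSpace.mem_basicOpen _ c x hx |>.mpr ?_
      have := this.map (X.presheaf.germ D x hxD).hom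
      rwa [← CommRingCat.comp_apply, TopCat.Presheaf.germ_res] at this
    refine hD.isUnit_of_span (d := d) ?_
    have key : ∀ (D : X.Opens) (hD : IsAffineOpen D) (i : D ≤ V'), D = X.basicOpen s →
        (A.deg D hD d : Set (A.presheaf.obj (op D))) ⊆
          (Ideal.span {(u.appLE U D (i.trans h')).hom f} : Set (A.presheaf.obj (op D))) := by
      rintro D hD i rfl a ha
      obtain ⟨k, y, hy, hya⟩ := exists_deg_mul hV' s ha
      have hu : IsUnit (resA A i (strA A V' s ^ k)) := by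
        rw [map_pow, resA_strA]
        exact ((RingedSpace.isUnit_res_basicOpen _ s).map _).pow k
      obtain ⟨b, hb⟩ := Ideal.mem_span_singleton'.mp (hs hy)
      obtain ⟨w, hw⟩ := hu.exists_right_inv
      refine Ideal.mem_span_singleton'.mpr ⟨resA A i b * w, ?_⟩
      rw [← appLE_res u h' i, mul_right_comm, ← map_mul, hb, ← hya, mul_assoc, hw, mul_one]
    have := key D (hV.basicOpen r) hDV' hrs (hD.mem_pow d)
    rwa [← appLE_res u h (X.basicOpen_le r), hc, map_mul, resA_strA, map_pow] at this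
  · intro hxc
    refine (mem_locus u).mpr ⟨X.basicOpen c, hV.basicOpen c, (X.basicOpen_le c).trans h, hxc, ?_⟩
    rw [← appLE_res u h (X.basicOpen_le c), hc, map_mul, resA_strA, map_pow]
    exact (hl.basicOpen c).deg_subset_span (RingedSpace.isUnit_res_basicOpen _ c)

lemma basicOpen_eq_of_le_locus {U : Y.Opens} {V : X.Opens} {hV : IsAffineOpen V}
    {ℓ : A.presheaf.obj (op V)} (hl : IsLineAt A V hV ℓ) {d : ℕ}
    {f : 𝒮.presheaf.obj (op U)} (hle : V ≤ locus u U d f) {c : Γ(X, V)}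
    (hc : (u.appLE U V (hle.trans (locus_le u U d f))).hom f = strA A V c * ℓ ^ d) :
    X.basicOpen c = V :=
  le_antisymm (X.basicOpen_le c) fun _ hx ↦ (mem_locus_iff u hl _ hc hx).mp (hle hx)

section proj

variable {V : X.Opens} {hV : IsAffineOpen V} {ℓ : A.presheaf.obj (op V)}
  {P : Scheme.{u}} {p : P ⟶ X}
  {chart : ∀ (U : X.Opens) (hU : IsAffineOpen U),
    (((p ⁻¹ᵁ U : P.Opens) : Scheme.{u}) ≅ Proj (A.deg U hU))}

/-- `D_+(c ℓ^d)` lies over `D(c)`. -/
lemma IsLineAt.mem_basicOpen_iff (h : IsLineAt A V hV ℓ) (hP : RelProj.IsRelProj A p chart)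
    {d : ℕ} (hd : 0 < d) (c : Γ(X, V)) (z : Proj (A.deg V hV)) :
    z ∈ Proj.basicOpen (A.deg V hV) (strA A V c * ℓ ^ d) ↔
      p (RelProj.emb p chart V hV z) ∈ X.basicOpen c := by
  have := h.isIso_awayι
  obtain ⟨w, rfl⟩ := (Proj.awayι (A.deg V hV) ℓ h.mem one_pos).surjective z
  have e : HomogeneousLocalization.Away.isLocalizationElem h.mem (h.mem_str d c) =
      (awayStr A hV ℓ).hom c := by
    refine HomogeneousLocalization.val_injective _ ?_
    rw [awayStr_val, HomogeneousLocalization.Away.val_mk, ← Localization.mk_one_eq_algebraMap,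
      Localization.mk_eq_mk_iff, Localization.r_iff_exists]
    exact ⟨1, by simp [mul_comm]⟩
  have h1 : (Proj.awayι (A.deg V hV) ℓ h.mem one_pos w ∈
      Proj.basicOpen (A.deg V hV) (strA A V c * ℓ ^ d)) ↔
      w ∈ PrimeSpectrum.basicOpen ((awayStr A hV ℓ).hom c) := by
    rw [← e, ← Proj.awayι_preimage_basicOpen (A.deg V hV) h.mem one_pos (h.mem_str d c) hd]
    rfl
  rw [h1, ← Scheme.Hom.comp_apply, ← Scheme.Hom.comp_apply,
    awayι_emb_π hP h.mem one_pos, Scheme.Hom.comp_apply, ← Scheme.Hom.mem_preimage hV.fromSpec,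
    IsAffineOpen.fromSpec_preimage_basicOpen]
  rfl

end proj

end Groth.Agent.EgaQ.SymL
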