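import Groth.Agent.EgaQ.SymL.Criteria
import Mathlib.AlgebraicGeometry.Morphisms.FiniteType

/-!
# `r_{L,ψ}` under a change of the algebra
-/

universe u

open CategoryTheory CategoryTheory.Limits AlgebraicGeometry TopologicalSpace Opposite
open scoped HomogeneousIdeal

noncomputable section

set_option backward.isDefEq.respectTransparency false

namespace Groth.Agent.EgaQ.SymL

variable {X Y : Scheme.{u}} {A : RelProj.QCGrAlg X} {q : X ⟶ Y} {𝒮 𝒯 : RelProj.QCGrAlg Y}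
  {u : RelProj.QGrHom q 𝒮 A} {u' : RelProj.QGrHom q 𝒯 A}
  {v : 𝒯.toQCAlg ⟶ 𝒮.toQCAlg}

lemma appLE_of_comp (hu' : ∀ U : Y.Opens, u'.app U = v.hom.app (op U) ≫ u.app U) {U : Y.Opens}
    {V : X.Opens} (h : V ≤ q ⁻¹ᵁ U) (f : 𝒯.presheaf.obj (op U)) :
    (u'.appLE U V h).hom f = (u.appLE U V h).hom ((v.hom.app (op U)).hom f) := by
  rw [RelSpec.QHom.appLE, RelSpec.QHom.appLE, hu']
  rfl

lemma locus_of_comp (hu' : ∀ U : Y.Opens, u'.app U = v.hom.app (op U) ≫ u.app U) (U : Y.Opens)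
    (d : ℕ) (f : 𝒯.presheaf.obj (op U)) :
    locus u' U d f = locus u U d ((v.hom.app (op U)).hom f) := by
  refine le_antisymm ?_ ?_ <;> intro x hx <;>
    obtain ⟨V, hV, h, hxV, hs⟩ := (mem_locus _).mp hx <;>
    refine (mem_locus _).mpr ⟨V, hV, h, hxV, ?_⟩
  · rwa [← appLE_of_comp hu']
  · rwa [appLE_of_comp hu']

/-- A power of `f` has the same locus. -/
lemma locus_pow_eq_bot (hA : IsLine A) {U : Y.Opens} (hU : IsAffineOpen U) {d k : ℕ} (hd : 0 < d)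
    (hk : 0 < k) {f : 𝒮.presheaf.obj (op U)} (hf : f ∈ 𝒮.deg U hU d) (h : locus u U d f = ⊥) :
    locus u U (k * d) (f ^ k) = ⊥ := by
  rw [locus_eq_bot_iff hA hU hd hf] at h
  rw [locus_eq_bot_iff hA hU (Nat.mul_pos hk hd) (by simpa using SetLike.pow_mem_graded k hf)]
  intro x hx
  obtain ⟨V, hV, hVU, hxV, hnil⟩ := h x hx
  exact ⟨V, hV, hVU, hxV, by rw [map_pow]; exact hnil.pow_of_pos hk.ne'⟩

lemma surjCond_iff {U : Y.Opens} (hU : IsAffineOpen U) {d : ℕ} {f : 𝒮.presheaf.obj (op U)}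
    {L : X.Opens} (e : locus u U d f = L) (h : L ≤ q ⁻¹ᵁ U) :
    SurjCond u hU d f ↔ ∀ z : Γ(X, L), ∃ (m : ℕ) (_ : 0 < m) (s : 𝒮.presheaf.obj (op U))
      (_ : s ∈ 𝒮.deg U hU (m * d)),
      strA A _ z * ((u.appLE U L h).hom f) ^ m =
        (u.appLE U L h).hom s := by
  subst e; rfl

lemma injCond_iff {U : Y.Opens} (hU : IsAffineOpen U) {d : ℕ} {f : 𝒮.presheaf.obj (op U)}
    {L : X.Opens} (e : locus u U d f = L) (h : L ≤ q ⁻¹ᵁ U) :
    InjCond u hU d f ↔ ∀ (m : ℕ), 0 < m → ∀ s ∈ 𝒮.deg U hU (m * d),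
      (u.appLE U L h).hom s = 0 → ∃ k : ℕ, 0 < k ∧ f ^ k * s = 0 := by
  subst e; rfl

lemma surjCond_push (hv : RelProj.IsGradedHom v)
    (hu' : ∀ U : Y.Opens, u'.app U = v.hom.app (op U) ≫ u.app U) {U : Y.Opens}
    (hU : IsAffineOpen U) {d : ℕ} {f : 𝒯.presheaf.obj (op U)} (h : SurjCond u' hU d f) :
    SurjCond u hU d ((v.hom.app (op U)).hom f) := by
  refine (surjCond_iff hU (locus_of_comp hu' U d f).symm (locus_le u' U d f)).mpr ?_
  intro z
  obtain ⟨m, hm, s, hs, e⟩ := h z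
  exact ⟨m, hm, _, hv U hU _ s hs, by rw [← appLE_of_comp hu', ← appLE_of_comp hu']; exact e⟩

lemma injCond_push (hv : RelProj.IsGradedHom v)
    (hu' : ∀ U : Y.Opens, u'.app U = v.hom.app (op U) ≫ u.app U) {U : Y.Opens}
    (hU : IsAffineOpen U) {n : ℕ} (hn : ∀ k, n ≤ k → ∀ y ∈ 𝒮.deg U hU k,
      ∃ x ∈ 𝒯.deg U hU k, (v.hom.app (op U)).hom x = y) {d : ℕ} (hd : 0 < d)
    {f : 𝒯.presheaf.obj (op U)} (hf : f ∈ 𝒯.deg U hU d) (h : InjCond u' hU d f) :
    InjCond u hU d ((v.hom.app (op U)).hom f) := by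
  refine (injCond_iff hU (locus_of_comp hu' U d f).symm (locus_le u' U d f)).mpr ?_
  intro m hm s hs h0
  let φ := (v.hom.app (op U)).hom
  have hfs : φ f ^ n * s ∈ 𝒮.deg U hU ((n + m) * d) := by
    rw [add_mul]
    simpa using SetLike.mul_mem_graded (SetLike.pow_mem_graded n (hv U hU d f hf)) hs
  obtain ⟨w, hw, hwe⟩ := hn ((n + m) * d)
    ((Nat.le_add_right n m).trans (Nat.le_mul_of_pos_right _ hd)) _ hfs
  obtain ⟨k, hk, hkw⟩ := h (n + m) (by omega) w hw (by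
    rw [appLE_of_comp hu', hwe, map_mul, h0, mul_zero])
  refine ⟨k + n, by omega, ?_⟩
  have := congrArg φ hkw
  rw [map_mul, map_pow, map_zero, hwe, ← mul_assoc, ← pow_add] at this
  exact this

/-- It suffices to reach generators. -/
lemma surjCond_of_generators {U : Y.Opens} (hU : IsAffineOpen U) {d : ℕ}
    {f : 𝒮.presheaf.obj (op U)} (hf : f ∈ 𝒮.deg U hU d) (T : Set Γ(X, locus u U d f))
    (hT : Subring.closure
      (Set.range (q.appLE U (locus u U d f) (locus_le u U d f)).hom ∪ T) = ⊤)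
    (h : ∀ z ∈ T, ∃ (m : ℕ) (s : 𝒮.presheaf.obj (op U)), s ∈ 𝒮.deg U hU (m * d) ∧
      strA A _ z * ((u.appLE U _ (locus_le u U d f)).hom f) ^ m =
        (u.appLE U _ (locus_le u U d f)).hom s) :
    SurjCond u hU d f := by
  let t := (u.appLE U _ (locus_le u U d f)).hom f
  have hpow : ∀ n : ℕ, f ^ n ∈ 𝒮.deg U hU (n * d) := fun n ↦ by
    simpa using SetLike.pow_mem_graded n hf
  suffices key : ∀ z : Γ(X, locus u U d f), ∃ (m : ℕ) (s : 𝒮.presheaf.obj (op U)),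
      s ∈ 𝒮.deg U hU (m * d) ∧ strA A _ z * t ^ m = (u.appLE U _ (locus_le u U d f)).hom s by
    intro z
    obtain ⟨m, s, hs, e⟩ := key z
    refine ⟨m + 1, m.succ_pos, s * f, ?_, ?_⟩
    · rw [add_mul, one_mul]; exact SetLike.mul_mem_graded hs hf
    · rw [pow_succ, ← mul_assoc, e, map_mul]
  intro z
  have hz : z ∈ Subring.closure
      (Set.range (q.appLE U (locus u U d f) (locus_le u U d f)).hom ∪ T) := hT ▸ trivial
  induction hz using Subring.closure_induction with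
  | mem z hz =>
    rcases hz with ⟨a, rfl⟩ | hz
    · refine ⟨0, strA 𝒮 U a, ?_, ?_⟩
      · rw [zero_mul]; exact 𝒮.str_mem U hU a
      · rw [pow_zero, mul_one, appLE_str]
    · exact h z hz
  | zero => exact ⟨0, 0, zero_mem _, by rw [map_zero, zero_mul, map_zero]⟩
  | one => exact ⟨0, 1, by rw [zero_mul]; exact SetLike.one_mem_graded _,
      by rw [map_one, one_mul, pow_zero, map_one]⟩
  | add a b _ _ ha hb =>
    obtain ⟨m, s, hs, e⟩ := ha
    obtain ⟨m', s', hs', e'⟩ := hb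
    refine ⟨m + m', s * f ^ m' + f ^ m * s', ?_, ?_⟩
    · rw [add_mul]
      exact add_mem (SetLike.mul_mem_graded hs (hpow m')) (SetLike.mul_mem_graded (hpow m) hs')
    · rw [map_add, map_add, map_mul, map_mul, map_pow, map_pow, ← e, ← e']
      ring
  | neg a _ ha =>
    obtain ⟨m, s, hs, e⟩ := ha
    exact ⟨m, -s, neg_mem hs, by rw [map_neg, map_neg, ← e, neg_mul]⟩
  | mul a b _ _ ha hb =>
    obtain ⟨m, s, hs, e⟩ := ha
    obtain ⟨m', s', hs', e'⟩ := hb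
    refine ⟨m + m', s * s', ?_, ?_⟩
    · rw [add_mul]; exact SetLike.mul_mem_graded hs hs'
    · rw [map_mul, map_mul, ← e, ← e']
      ring

/-- Finitely many functions to reach, over a base affine. -/
lemma exists_generators [LocallyOfFiniteType q] {U : Y.Opens} (hU : IsAffineOpen U) {L : X.Opens}
    (hL : IsAffineOpen L) (h : L ≤ q ⁻¹ᵁ U) :
    ∃ T : Finset Γ(X, L), Subring.closure (Set.range (q.appLE U L h).hom ∪ T) = ⊤ := by
  letI := (q.appLE U L h).hom.toAlgebra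
  have : Algebra.FiniteType Γ(Y, U) Γ(X, L) := q.finiteType_appLE hU hL h
  obtain ⟨T, hT⟩ := this.1
  exact ⟨T, by rw [← hT.symm.subst (motive := fun S ↦ S.toSubring = (⊤ : Subring Γ(X, L))) rfl,
    Algebra.adjoin_eq_ring_closure]; rfl⟩

variable {P P' : Scheme.{u}} {p : P ⟶ Y} {p' : P' ⟶ Y}
  {chart : ∀ (U : Y.Opens) (hU : IsAffineOpen U),
    (((p ⁻¹ᵁ U : P.Opens) : Scheme.{u}) ≅ Proj (𝒮.deg U hU))}
  {chart' : ∀ (U : Y.Opens) (hU : IsAffineOpen U),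
    (((p' ⁻¹ᵁ U : P'.Opens) : Scheme.{u}) ≅ Proj (𝒯.deg U hU))}
  {PL : Scheme.{u}} {pL : PL ⟶ X}
  {chartL : ∀ (U : X.Opens) (hU : IsAffineOpen U),
    (((pL ⁻¹ᵁ U : PL.Opens) : Scheme.{u}) ≅ Proj (A.deg U hU))}
  {r : ((RelProj.domQ u pL chartL : PL.Opens) : Scheme.{u}) ⟶ P}
  {r' : ((RelProj.domQ u' pL chartL : PL.Opens) : Scheme.{u}) ⟶ P'}

lemma exists_affine_nhd (y : Y) : ∃ (U : Y.Opens) (_ : IsAffineOpen U), y ∈ U := by
  obtain ⟨_, ⟨U, hU, rfl⟩, hyU, -⟩ :=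
    Y.isBasis_affineOpens.exists_subset_of_mem_open (Set.mem_univ y) isOpen_univ
  exact ⟨U, hU, hyU⟩

theorem isImmersion_of_comp (hA : IsLine A) (hP : RelProj.IsRelProj 𝒮 p chart)
    (hPL : RelProj.IsRelProj A pL chartL)
    (hr : RelProj.IsProjQMapOn u p chart pL chartL (RelProj.domQ u pL chartL) r)
    (hv : RelProj.IsGradedHom v) (hu' : ∀ U : Y.Opens, u'.app U = v.hom.app (op U) ≫ u.app U)
    (hP' : RelProj.IsRelProj 𝒯 p' chart')
    (hr' : RelProj.IsProjQMapOn u' p' chart' pL chartL (RelProj.domQ u' pL chartL) r')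
    (htop : RelProj.domQ u' pL chartL = ⊤) [IsImmersion r'] :
    RelProj.domQ u pL chartL = ⊤ ∧ IsImmersion r := by
  choose U hU hxU using fun x : X ↦ exists_affine_nhd (q x)
  choose d f hd hf hx haff hs using fun x : X ↦
    exists_crit_of_isImmersion hA hP' hPL hr' htop (hU x) (hxU x)
  exact isImmersion_of_crit hA hP hPL hr U hU d hd _ (fun x ↦ hv _ _ _ _ (hf x))
    (fun x ↦ ⟨x, (locus_of_comp hu' _ _ _).le (hx x)⟩)
    (fun x ↦ locus_of_comp hu' _ _ _ ▸ haff x) fun x ↦ surjCond_push hv hu' _ (hs x)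

end Groth.Agent.EgaQ.SymL
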