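import Groth.Agent.EgaQ.SymL.Locus
import Groth.Agent.Proj16.Map

/-!
# The open of definition and the preimages of `r_{L,ψ}`
-/

universe u

open CategoryTheory CategoryTheory.Limits AlgebraicGeometry TopologicalSpace Opposite
open scoped HomogeneousIdeal

noncomputable section

set_option backward.isDefEq.respectTransparency false

namespace Groth.Agent.EgaQ.SymL

variable {X Y : Scheme.{u}} {A : RelProj.QCGrAlg X} {q : X ⟶ Y} {𝒮 : RelProj.QCGrAlg Y}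
  {u : RelProj.QGrHom q 𝒮 A}
  {P : Scheme.{u}} {p : P ⟶ Y}
  {chart : ∀ (U : Y.Opens) (hU : IsAffineOpen U),
    (((p ⁻¹ᵁ U : P.Opens) : Scheme.{u}) ≅ Proj (𝒮.deg U hU))}
  {PL : Scheme.{u}} {pL : PL ⟶ X}
  {chartL : ∀ (U : X.Opens) (hU : IsAffineOpen U),
    (((pL ⁻¹ᵁ U : PL.Opens) : Scheme.{u}) ≅ Proj (A.deg U hU))}

/-- Over a frame, `D_+(u f)` lies over the locus of `u f`. -/
lemma emb_mem_basicOpen_iff (hPL : RelProj.IsRelProj A pL chartL) (π : APair q)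
    {ℓ : A.presheaf.obj (op π.U')} (hl : IsLineAt A π.U' π.hU' ℓ) {d : ℕ} (hd : 0 < d)
    {f : 𝒮.presheaf.obj (op π.U)} (hf : f ∈ 𝒮.deg π.U π.hU d) (z : Proj (A.deg π.U' π.hU')) :
    z ∈ Proj.basicOpen (A.deg π.U' π.hU') (uAt u π f) ↔
      pL (RelProj.emb pL chartL π.U' π.hU' z) ∈ locus u π.U d f := by
  obtain ⟨c, hc⟩ := exists_coef_appLE u π.hU hl π.le hf
  rw [mem_locus_iff u hl π.le hc (π_emb_mem _ _ _), show (uAt u π f) = strA A π.U' c * ℓ ^ d from hc]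
  exact hl.mem_basicOpen_iff hPL hd c z

lemma mem_domQ_iff_of_mem (hA : IsLine A) (hPL : RelProj.IsRelProj A pL chartL) {U : Y.Opens}
    (hU : IsAffineOpen U) {x : PL} (hx : q (pL x) ∈ U) :
    x ∈ RelProj.domQ u pL chartL ↔
      ∃ (d : ℕ) (f : 𝒮.presheaf.obj (op U)), 0 < d ∧ f ∈ 𝒮.deg U hU d ∧ pL x ∈ locus u U d f := by
  obtain ⟨V, hV, ℓ, hxV, hVU, hl⟩ := hA.exists_nhd (pL x) (W := q ⁻¹ᵁ U) hx
  let π : APair q := ⟨U, hU, V, hV, hVU⟩
  obtain ⟨z, rfl⟩ := mem_range_emb (p := pL) (chart := chartL) V hV x hxV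
  rw [emb_mem_domQ_iff u hPL π z, mem_domOpen_iff_exists]
  exact exists_congr fun d ↦ exists_congr fun f ↦
    ⟨fun ⟨hd, hf, hz⟩ ↦ ⟨hd, hf, (emb_mem_basicOpen_iff hPL π hl hd hf z).mp hz⟩,
      fun ⟨hd, hf, hz⟩ ↦ ⟨hd, hf, (emb_mem_basicOpen_iff hPL π hl hd hf z).mpr hz⟩⟩

lemma preimage_locus_le_domQ (hA : IsLine A) (hPL : RelProj.IsRelProj A pL chartL) {U : Y.Opens}
    (hU : IsAffineOpen U) {d : ℕ} (hd : 0 < d) {f : 𝒮.presheaf.obj (op U)}
    (hf : f ∈ 𝒮.deg U hU d) : pL ⁻¹ᵁ locus u U d f ≤ RelProj.domQ u pL chartL := fun x hx ↦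
  (mem_domQ_iff_of_mem hA hPL hU (locus_le u U d f hx)).mpr ⟨d, f, hd, hf, hx⟩

/-- The points where every positive degree section vanishes. -/
lemma domQ_eq_top_iff (hA : IsLine A) (hPL : RelProj.IsRelProj A pL chartL) :
    RelProj.domQ u pL chartL = ⊤ ↔ ∀ x : X, ∀ (U : Y.Opens) (hU : IsAffineOpen U), q x ∈ U →
      ∃ (d : ℕ) (f : 𝒮.presheaf.obj (op U)), 0 < d ∧ f ∈ 𝒮.deg U hU d ∧ x ∈ locus u U d f := by
  have := isIso_π hA hPL
  constructor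
  · intro h x U hU hx
    obtain ⟨y, rfl⟩ := pL.surjective x
    exact (mem_domQ_iff_of_mem hA hPL hU hx).mp (h.ge trivial)
  · refine fun h ↦ eq_top_iff.mpr fun y _ ↦ ?_
    obtain ⟨_, ⟨U, hU, rfl⟩, hyU, -⟩ := Y.isBasis_affineOpens.exists_subset_of_mem_open
      (Set.mem_univ (q (pL y))) isOpen_univ
    exact (mem_domQ_iff_of_mem hA hPL hU hyU).mpr (h (pL y) U hU hyU)

lemma domQ_eq_top_of_exists (hA : IsLine A) (hPL : RelProj.IsRelProj A pL chartL)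
    (h : ∀ x : X, ∃ (U : Y.Opens) (hU : IsAffineOpen U) (d : ℕ) (f : 𝒮.presheaf.obj (op U)),
      0 < d ∧ f ∈ 𝒮.deg U hU d ∧ x ∈ locus u U d f) :
    RelProj.domQ u pL chartL = ⊤ :=
  eq_top_iff.mpr fun y _ ↦ by
    obtain ⟨U, hU, d, f, hd, hf, hy⟩ := h (pL y)
    exact preimage_locus_le_domQ hA hPL hU hd hf hy

variable {r : ((RelProj.domQ u pL chartL : PL.Opens) : Scheme.{u}) ⟶ P}

/-- `r⁻¹(D_+(f))` is where `u f` does not vanish. -/
theorem preimage_emb_basicOpen (hA : IsLine A) (hP : RelProj.IsRelProj 𝒮 p chart)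
    (hPL : RelProj.IsRelProj A pL chartL)
    (hr : RelProj.IsProjQMapOn u p chart pL chartL (RelProj.domQ u pL chartL) r)
    {U : Y.Opens} (hU : IsAffineOpen U) {d : ℕ} (hd : 0 < d) {f : 𝒮.presheaf.obj (op U)}
    (hf : f ∈ 𝒮.deg U hU d) :
    r ⁻¹ᵁ (RelProj.emb p chart U hU ''ᵁ Proj.basicOpen (𝒮.deg U hU) f) =
      ((RelProj.domQ u pL chartL).ι ≫ pL) ⁻¹ᵁ locus u U d f := by
  ext y
  have hover : p (r y) = q (pL ((RelProj.domQ u pL chartL).ι y)) := by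
    rw [← Scheme.Hom.comp_apply, projQMapOn_comp hPL hP hr, Scheme.Hom.comp_apply,
      Scheme.Hom.comp_apply]
  by_cases hyU : q (pL ((RelProj.domQ u pL chartL).ι y)) ∈ U
  swap
  · refine iff_of_false (fun h ↦ hyU ?_) fun h ↦ hyU (locus_le u U d f h)
    obtain ⟨w, -, hw⟩ := h
    rw [← hover, ← hw]
    exact π_emb_mem U hU w
  obtain ⟨V, hV, ℓ, hxV, hVU, hl⟩ :=
    hA.exists_nhd (pL ((RelProj.domQ u pL chartL).ι y)) (W := q ⁻¹ᵁ U) hyU
  let π : APair q := ⟨U, hU, V, hV, hVU⟩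
  have hy : y ∈ (domι u (p' := pL) (chart' := chartL) π).opensRange := by
    rw [opensRange_domι hPL]
    exact hxV
  obtain ⟨t, rfl⟩ := hy
  show r (domι u π t) ∈ RelProj.emb p chart U hU ''ᵁ Proj.basicOpen (𝒮.deg U hU) f ↔
    pL ((RelProj.domQ u pL chartL).ι (domι u π t)) ∈ locus u U d f
  rw [← Scheme.Hom.comp_apply _ r, (isProjQMapOn_iff r).mp hr π,
    ← Scheme.Hom.comp_apply (domι u π), domι_ι, locMap, Scheme.Hom.comp_apply,
    Scheme.Hom.comp_apply]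
  have h1 : RelProj.emb p chart U hU (domMap (uAt u π) t) ∈
      RelProj.emb p chart U hU ''ᵁ Proj.basicOpen (𝒮.deg U hU) f ↔
      t ∈ domMap (uAt u π) ⁻¹ᵁ Proj.basicOpen (𝒮.deg U hU) f := by
    constructor
    · rintro ⟨w, hw, he⟩
      rw [(RelProj.emb p chart U hU).isOpenEmbedding.injective he] at hw
      exact hw
    · exact fun h ↦ ⟨_, h, rfl⟩
  rw [h1, domMap_preimage_basicOpen _ hf hd]
  exact emb_mem_basicOpen_iff hPL π hl hd hf _

lemma exists_basicOpen_nhd {O : P.Opens} {y : P} (hy : y ∈ O) {U : Y.Opens} (hU : IsAffineOpen U)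
    (hyU : p y ∈ U) : ∃ (d : ℕ) (f : 𝒮.presheaf.obj (op U)), 0 < d ∧ f ∈ 𝒮.deg U hU d ∧
      y ∈ RelProj.emb p chart U hU ''ᵁ Proj.basicOpen (𝒮.deg U hU) f ∧
      RelProj.emb p chart U hU ''ᵁ Proj.basicOpen (𝒮.deg U hU) f ≤ O := by
  obtain ⟨z, rfl⟩ := mem_range_emb (p := p) (chart := chart) U hU y hyU
  obtain ⟨d, f, hd, hf, hz, hsub⟩ := Proj16.exists_basicOpen_subset
    (RelProj.emb p chart U hU ⁻¹ᵁ O).isOpen (x := z) hy
  refine ⟨d, f, hd, hf, ⟨z, hz, rfl⟩, ?_⟩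
  rintro _ ⟨w, hw, rfl⟩
  exact hsub hw

lemma basicOpen_eq_bot_iff {U : Y.Opens} (hU : IsAffineOpen U) {d : ℕ} (hd : 0 < d)
    {f : 𝒮.presheaf.obj (op U)} (hf : f ∈ 𝒮.deg U hU d) :
    Proj.basicOpen (𝒮.deg U hU) f = ⊥ ↔ IsNilpotent f := by
  constructor
  · intro h
    refine mem_nilradical.mp (Proj16.mem_radical_of_forall_point (𝒮.deg U hU) (I := ⊥)
      (Ideal.IsHomogeneous.bot _) (HomogeneousIdeal.mem_irrelevant_of_mem _ hd hf) fun x _ ↦ ?_)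
    by_contra hx
    exact h.le (show x ∈ Proj.basicOpen (𝒮.deg U hU) f from hx)
  · rintro ⟨n, hn⟩
    exact eq_bot_iff.mpr fun x hx ↦ hx (x.isPrime.mem_of_pow_mem n (hn ▸ zero_mem _))

/-- The locus is empty iff `u f` is locally nilpotent. -/
lemma locus_eq_bot_iff (hA : IsLine A) {U : Y.Opens} (hU : IsAffineOpen U) {d : ℕ} (hd : 0 < d)
    {f : 𝒮.presheaf.obj (op U)} (hf : f ∈ 𝒮.deg U hU d) :
    locus u U d f = ⊥ ↔ ∀ x ∈ q ⁻¹ᵁ U, ∃ (V : X.Opens) (_ : IsAffineOpen V) (h : V ≤ q ⁻¹ᵁ U),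
      x ∈ V ∧ IsNilpotent ((u.appLE U V h).hom f) := by
  constructor
  · intro h x hx
    obtain ⟨V, hV, ℓ, hxV, hVU, hl⟩ := hA.exists_nhd x (W := q ⁻¹ᵁ U) hx
    obtain ⟨c, hc⟩ := exists_coef_appLE u hU hl hVU hf
    refine ⟨V, hV, hVU, hxV, ?_⟩
    have hc0 : X.basicOpen c = ⊥ := eq_bot_iff.mpr fun y hy ↦
      h.le ((mem_locus_iff u hl hVU hc (X.basicOpen_le c hy)).mpr hy)
    have : IsNilpotent c := (PrimeSpectrum.basicOpen_eq_bot_iff c).mp (by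
      rw [← hV.fromSpec_preimage_basicOpen c, hc0]
      exact Scheme.Hom.preimage_bot _)
    rw [hc]
    exact Commute.isNilpotent_mul_right (Commute.all _ _) (this.map _)
  · intro h
    refine eq_bot_iff.mpr fun x hx ↦ ?_
    obtain ⟨V, hV, hVU, hxV, hnil⟩ := h x (locus_le u U d f hx)
    obtain ⟨V', hV', ℓ, hxV', hV'V, hl⟩ := hA.exists_nhd x (W := V) hxV
    obtain ⟨c, hc⟩ := exists_coef_appLE u hU hl (hV'V.trans hVU) hf
    have hxc := (mem_locus_iff u hl _ hc hxV').mp hx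
    have hnil' : IsNilpotent (strA A V' c * ℓ ^ d) := by
      rw [← hc, ← appLE_res u hVU hV'V f]
      exact hnil.map _
    obtain ⟨n, hn⟩ := hnil'
    rw [mul_pow, ← map_pow, ← pow_mul] at hn
    have := hl.coef_inj _ _ hn
    have hbot : X.basicOpen c = ⊥ := by
      refine eq_bot_iff.mpr fun y hy ↦ ?_
      rcases n.eq_zero_or_pos with rfl | hn0
      · rw [pow_zero] at this
        have h2 := Scheme.basicOpen_of_isUnit X (this ▸ isUnit_one : IsUnit (0 : Γ(X, V')))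
        rw [Scheme.basicOpen_zero] at h2
        exact h2.ge (X.basicOpen_le c hy)
      · rw [← X.basicOpen_pow c hn0, this, Scheme.basicOpen_zero] at hy
        exact hy
    exact hbot.le hxc

/-- `r` is dominant iff no non-nilpotent `f` has an everywhere vanishing image. -/
theorem isDominant_iff (hA : IsLine A) (hP : RelProj.IsRelProj 𝒮 p chart)
    (hPL : RelProj.IsRelProj A pL chartL)
    (hr : RelProj.IsProjQMapOn u p chart pL chartL (RelProj.domQ u pL chartL) r)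
    {κ : Type*} (U : κ → Y.Opens) (hU : ∀ k, IsAffineOpen (U k)) (hcov : ∀ y, ∃ k, y ∈ U k) :
    IsDominant r ↔ ∀ k, ∀ (d : ℕ), 0 < d → ∀ f ∈ 𝒮.deg (U k) (hU k) d,
      locus u (U k) d f = ⊥ → IsNilpotent f := by
  constructor
  · intro h k d hd f hf hbot
    rw [← basicOpen_eq_bot_iff (hU k) hd hf]
    by_contra hne
    obtain ⟨z, hz⟩ := Set.nonempty_iff_ne_empty.mpr fun e ↦
      hne (Opens.ext e : Proj.basicOpen (𝒮.deg (U k) (hU k)) f = ⊥)
    obtain ⟨y, hy⟩ := r.denseRange.exists_mem_open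
      (RelProj.emb p chart (U k) (hU k) ''ᵁ Proj.basicOpen (𝒮.deg (U k) (hU k)) f).isOpen
      ⟨_, z, hz, rfl⟩
    have := (preimage_emb_basicOpen hA hP hPL hr (hU k) hd hf).le hy
    rw [Scheme.Hom.mem_preimage, hbot] at this
    exact this
  · intro h
    refine ⟨dense_iff_inter_open.mpr fun O hO ⟨y, hy⟩ ↦ ?_⟩
    obtain ⟨k, hk⟩ := hcov (p y)
    obtain ⟨d, f, hd, hf, hyf, hle⟩ :=
      exists_basicOpen_nhd (chart := chart) (O := ⟨O, hO⟩) hy (hU k) hk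
    have hne : locus u (U k) d f ≠ ⊥ := fun hb ↦ by
      obtain ⟨w, hw, -⟩ := hyf
      rw [(basicOpen_eq_bot_iff (hU k) hd hf).mpr (h k d hd f hf hb)] at hw
      exact hw
    obtain ⟨x, hx⟩ : (locus u (U k) d f : Set X).Nonempty :=
      Set.nonempty_iff_ne_empty.mpr fun e ↦ hne (Opens.ext e)
    have := isIso_π hA hPL
    obtain ⟨w, rfl⟩ := pL.surjective x
    let w' : (RelProj.domQ u pL chartL).toScheme :=
      ⟨w, preimage_locus_le_domQ hA hPL (hU k) hd hf hx⟩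
    exact ⟨r w', hle ((preimage_emb_basicOpen hA hP hPL hr (hU k) hd hf).ge hx), w', rfl⟩

end Groth.Agent.EgaQ.SymL
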