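import Groth.Agent.EgaQ.SymL.RLPsi

/-!
# The restriction of `r_{L,ψ}` over a standard affine open
-/

universe u

open CategoryTheory CategoryTheory.Limits AlgebraicGeometry TopologicalSpace Opposite
open scoped HomogeneousIdeal

noncomputable section

set_option backward.isDefEq.respectTransparency false

namespace Groth.Agent.EgaQ.SymL

variable {X Y : Scheme.{u}} {A : RelProj.QCGrAlg X} {q : X ⟶ Y} {𝒮 : RelProj.QCGrAlg Y}
  {u : RelProj.QGrHom q 𝒮 A}
  {P : Scheme.{u}} {p : P ⟶ Y}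
  {chart : ∀ (U : Y.Opens) (hU : IsAffineOpen U),
    (((p ⁻¹ᵁ U : P.Opens) : Scheme.{u}) ≅ Proj (𝒮.deg U hU))}
  {PL : Scheme.{u}} {pL : PL ⟶ X}
  {chartL : ∀ (U : X.Opens) (hU : IsAffineOpen U),
    (((pL ⁻¹ᵁ U : PL.Opens) : Scheme.{u}) ≅ Proj (A.deg U hU))}
  {r : ((RelProj.domQ u pL chartL : PL.Opens) : Scheme.{u}) ⟶ P}

/-- Sections of the algebra agreeing near every point are equal. -/
lemma eq_of_nhds {W : X.Opens} {a b : A.presheaf.obj (op W)}
    (h : ∀ x ∈ W, ∃ (V : X.Opens) (hV : V ≤ W), x ∈ V ∧ resA A hV a = resA A hV b) : a = b := by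
  choose V hVW hxV he using h
  exact TopCat.Sheaf.eq_of_locally_eq' (⟨A.presheaf, A.isSheaf⟩ : TopCat.Sheaf CommRingCat X)
    (fun x : W ↦ V x.1 x.2) W (fun x ↦ homOfLE (hVW x.1 x.2))
    (fun x hx ↦ Opens.mem_iSup.mpr ⟨⟨x, hx⟩, hxV x hx⟩) a b fun x ↦ he x.1 x.2

lemma eq_of_str_mul_pow (hA : IsLine A) {U : Y.Opens} (hU : IsAffineOpen U) {d m : ℕ}
    {f : 𝒮.presheaf.obj (op U)} (hf : f ∈ 𝒮.deg U hU d) {z z' : Γ(X, locus u U d f)}
    (e : strA A (locus u U d f) z * ((u.appLE U _ (locus_le u U d f)).hom f) ^ m =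
      strA A (locus u U d f) z' * ((u.appLE U _ (locus_le u U d f)).hom f) ^ m) : z = z' := by
  apply X.sheaf.eq_of_locally_eq' (fun V : {V : X.affineOpens //
      (V : X.Opens) ≤ locus u U d f ∧ ∃ ℓ, IsLineAt A V.1 V.2 ℓ} ↦ (V.1.1 : X.Opens))
    (locus u U d f) (fun V ↦ homOfLE V.2.1)
    (fun x hx ↦ by
      obtain ⟨V, hV, ℓ, hxV, hle, hl⟩ := hA.exists_nhd x hx
      exact Opens.mem_iSup.mpr ⟨⟨⟨V, hV⟩, hle, ℓ, hl⟩, hxV⟩)
  rintro ⟨⟨V, hV⟩, hle, ℓ, hl⟩
  obtain ⟨c, hc⟩ := exists_coef_appLE u hU hl (hle.trans (locus_le u U d f)) hf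
  have hcu : IsUnit c := by
    have h := basicOpen_eq_of_le_locus u hl hle hc
    exact (X.toRingedSpace.isUnit_of_isUnit_germ V c) fun x hx ↦
      (X.mem_basicOpen c x hx).mp (h.ge hx)
  have h1 := congrArg (resA A hle) e
  rw [map_mul, map_mul, map_pow, resA_strA, resA_strA, appLE_res, hc, mul_pow, ← map_pow,
    ← mul_assoc, ← mul_assoc, ← map_mul, ← map_mul, ← pow_mul] at h1
  exact (hcu.pow m).mul_left_inj.mp (hl.coef_unique h1)

/-- Over `D_+(f)` the morphism is given by `s/f^k ↦ (u s)/(u f)^k`. -/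
theorem exists_theta (hA : IsLine A) (hP : RelProj.IsRelProj 𝒮 p chart)
    (hPL : RelProj.IsRelProj A pL chartL)
    (hr : RelProj.IsProjQMapOn u p chart pL chartL (RelProj.domQ u pL chartL) r)
    {U : Y.Opens} (hU : IsAffineOpen U) {d : ℕ} (hd : 0 < d) {f : 𝒮.presheaf.obj (op U)}
    (hf : f ∈ 𝒮.deg U hU d) :
    ∃ θ : CommRingCat.of (HomogeneousLocalization.Away (𝒮.deg U hU) f) ⟶ Γ(X, locus u U d f),
      (∀ (k : ℕ) (s : 𝒮.presheaf.obj (op U)) (hs : s ∈ 𝒮.deg U hU (k • d)),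
        strA A (locus u U d f) (θ.hom (HomogeneousLocalization.Away.mk _ hf k s hs)) *
            ((u.appLE U _ (locus_le u U d f)).hom f) ^ k =
          (u.appLE U _ (locus_le u U d f)).hom s) ∧
      ∀ (Pr : MorphismProperty Scheme.{u}) [Pr.RespectsIso],
        Pr (r ∣_ (RelProj.emb p chart U hU ''ᵁ Proj.basicOpen (𝒮.deg U hU) f)) ↔
          Pr ((locus u U d f).toSpecΓ ≫ Spec.map θ) := by
  let L := locus u U d f
  let W := RelProj.domQ u pL chartL
  let O := RelProj.emb p chart U hU ''ᵁ Proj.basicOpen (𝒮.deg U hU) f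
  let e : Spec (CommRingCat.of (HomogeneousLocalization.Away (𝒮.deg U hU) f)) ⟶ P :=
    Proj.awayι (𝒮.deg U hU) f hf hd ≫ RelProj.emb p chart U hU
  have heO : Set.range e = (O : Set P) := by
    rw [← Scheme.Hom.coe_opensRange, Scheme.Hom.opensRange_comp, Proj.opensRange_awayι]
  let eO := IsOpenImmersion.lift O.ι e (by rw [Scheme.Opens.range_ι, heO])
  have : IsOpenImmersion (eO ≫ O.ι) := by rw [IsOpenImmersion.lift_fac]; infer_instance
  have : IsOpenImmersion eO := IsOpenImmersion.of_comp _ O.ι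
  have : IsIso eO := by
    rw [AlgebraicGeometry.isIso_iff_isOpenImmersion_and_surjective]
    refine ⟨inferInstance, ⟨fun ⟨y, hy⟩ ↦ ?_⟩⟩
    obtain ⟨w, hw⟩ := heO.ge hy
    refine ⟨w, O.ι.isOpenEmbedding.injective ?_⟩
    rw [← Scheme.Hom.comp_apply, IsOpenImmersion.lift_fac, hw]
    rfl
  have := isIso_π hA hPL
  have hT := preimage_emb_basicOpen hA hP hPL hr hU hd hf
  let β := (W.toScheme.isoOfEq hT).hom ≫ ((W.ι ≫ pL) ∣_ L)
  have : IsIso ((W.ι ≫ pL) ∣_ L) := by
    rw [AlgebraicGeometry.isIso_iff_isOpenImmersion_and_surjective]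
    refine ⟨inferInstance, ⟨fun ⟨x, hx⟩ ↦ ?_⟩⟩
    obtain ⟨y, rfl⟩ := pL.surjective x
    let y' : W.toScheme := ⟨y, preimage_locus_le_domQ hA hPL hU hd hf hx⟩
    refine ⟨⟨y', hx⟩, L.ι.isOpenEmbedding.injective ?_⟩
    rw [← Scheme.Hom.comp_apply, morphismRestrict_ι, Scheme.Hom.comp_apply]
    rfl
  let ρ : L.toScheme ⟶ Spec (CommRingCat.of (HomogeneousLocalization.Away (𝒮.deg U hU) f)) :=
    inv β ≫ (r ∣_ O) ≫ inv eO
  let θ := (Scheme.ΓSpecIso _).inv ≫ ρ.appTop ≫ L.topIso.hom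
  have hρ : ρ = L.toSpecΓ ≫ Spec.map θ := by
    refine ext_of_isAffine ?_
    simp only [Scheme.Hom.comp_appTop, Scheme.Opens.toSpecΓ_appTop, θ,
      Scheme.ΓSpecIso_naturality_assoc]
    simp
    exact (Category.comp_id _).symm
  refine ⟨θ, fun k s hs ↦ ?_, fun Pr _ ↦ ?_⟩
  · refine eq_of_nhds fun x hx ↦ ?_
    obtain ⟨V, hV, ℓ, hxV, hle, hl⟩ := hA.exists_nhd x hx
    refine ⟨V, hle, hxV, ?_⟩
    let π : APair q := ⟨U, hU, V, hV, hle.trans (locus_le u U d f)⟩
    obtain ⟨c, hc⟩ := exists_coef_appLE u hU hl π.le hf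
    have hcu : IsUnit c :=
      (X.toRingedSpace.isUnit_of_isUnit_germ V c) fun y hy ↦
        (X.mem_basicOpen c y hy).mp ((basicOpen_eq_of_le_locus u hl hle hc).ge hy)
    let g := uAt u π f
    have hg : g ∈ A.deg V hV d := (uAt u π).map_mem hf
    let a := RelProj.awayEmb u pL chartL U hU V hV π.le hd f hf
    have ha : Set.range a.base ⊆ Set.range W.ι.base := by
      exact RelProj.range_awayEmb_subset_domQ ..
    let w := IsOpenImmersion.lift W.ι a ha
    have hwL : w ≫ W.ι ≫ pL = Spec.map (awayStr A hV g) ≫ hV.fromSpec := by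
      rw [IsOpenImmersion.lift_fac_assoc]
      exact (Category.assoc _ _ _).trans (awayι_emb_π hPL hg hd)
    have hwT : Set.range w.base ⊆ Set.range (r ⁻¹ᵁ O).ι.base := by
      rw [Scheme.Opens.range_ι, hT]
      rintro _ ⟨y, rfl⟩
      show (W.ι ≫ pL) (w y) ∈ L
      rw [← Scheme.Hom.comp_apply, hwL, Scheme.Hom.comp_apply]
      exact hle (hV.range_fromSpec.le ⟨_, rfl⟩)
    let w' := IsOpenImmersion.lift (r ⁻¹ᵁ O).ι w hwT
    have h1 : w' ≫ (r ∣_ O) ≫ inv eO =
        Spec.map (CommRingCat.ofHom (HomogeneousLocalization.Away.map (uAt u π) f)) := by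
      rw [← cancel_mono e, ← IsOpenImmersion.lift_fac O.ι e (by rw [Scheme.Opens.range_ι, heO])]
      simp only [Category.assoc]
      rw [show inv eO ≫ eO ≫ O.ι = O.ι from IsIso.inv_hom_id_assoc _ _, morphismRestrict_ι,
        IsOpenImmersion.lift_fac_assoc, IsOpenImmersion.lift_fac]
      exact hr U hU V hV π.le d hd f hf ha
    have h2 : w' ≫ β = Spec.map (awayStr A hV g) ≫ hV.isoSpec.inv ≫ X.homOfLE hle := by
      rw [← cancel_mono L.ι]
      have hι : (W.toScheme.isoOfEq hT).hom ≫ ((W.ι ≫ pL) ⁻¹ᵁ L).ι = (r ⁻¹ᵁ O).ι :=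
        Scheme.isoOfEq_hom_ι _ _
      simp only [β, Category.assoc, morphismRestrict_ι]
      rw [reassoc_of% hι, IsOpenImmersion.lift_fac_assoc, hwL, Scheme.homOfLE_ι,
        IsAffineOpen.isoSpec_inv_ι]
    have h3 : Spec.map (CommRingCat.ofHom (HomogeneousLocalization.Away.map (uAt u π) f)) =
        Spec.map (θ ≫ X.presheaf.map (homOfLE hle).op ≫ awayStr A hV g) := by
      rw [← h1, show (r ∣_ O) ≫ inv eO = β ≫ ρ by rw [IsIso.hom_inv_id_assoc], reassoc_of% h2, hρ,
        ← Scheme.Opens.toSpecΓ_SpecMap_presheaf_map_assoc, ← IsAffineOpen.isoSpec_hom hV,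
        Iso.inv_hom_id_assoc]
      simp only [θ, Spec.map_comp, Category.assoc]
    have h4 := congrArg HomogeneousLocalization.val (ConcreteCategory.congr_hom
      (Spec.map_injective h3) (HomogeneousLocalization.Away.mk (𝒮.deg U hU) hf k s hs))
    simp only [CommRingCat.hom_ofHom] at h4
    erw [awayStr_val, HomogeneousLocalization.Away.map_mk, HomogeneousLocalization.Away.val_mk] at h4
    rw [← Localization.mk_one_eq_algebraMap, Localization.mk_eq_mk_iff,
      Localization.r_iff_exists] at h4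
    obtain ⟨⟨_, m, rfl⟩, hm⟩ := h4
    simp only [OneMemClass.coe_one, one_mul] at hm
    rw [map_mul, map_pow, resA_strA, appLE_res, appLE_res]
    change g ^ m * uAt u π s = g ^ m * (g ^ k * strA A V _) at hm
    obtain ⟨a', ha'⟩ := exists_coef_appLE u hU hl π.le hs
    change (u.appLE U V π.le).hom f ^ m * (u.appLE U V π.le).hom s =
      (u.appLE U V π.le).hom f ^ m * ((u.appLE U V π.le).hom f ^ k * _) at hm
    generalize hz : (X.presheaf.map (homOfLE hle).op).hom
      (θ.hom (HomogeneousLocalization.Away.mk (𝒮.deg U hU) hf k s hs)) = z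
    have hm' : (u.appLE U V π.le).hom f ^ m * (u.appLE U V π.le).hom s =
        (u.appLE U V π.le).hom f ^ m * ((u.appLE U V π.le).hom f ^ k * strA A V z) := by
      subst hz; exact hm
    clear hm
    rename' hm' => hm
    rw [ha', hc] at hm ⊢
    have h5 := hl.coef_unique (d := d * m + k • d)
      (c := c ^ m * a') (c' := c ^ m * (c ^ k * z)) (by
      simp only [smul_eq_mul] at hm ⊢
      simp only [map_mul, map_pow, pow_add, pow_mul]
      refine Eq.trans ?_ (hm.trans ?_) <;> ring)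
    rw [(hcu.pow m).mul_right_inj.mp h5, map_mul, map_pow, smul_eq_mul, mul_comm k d, pow_mul]
    ring
  · rw [← hρ, Pr.cancel_left_of_respectsIso, Pr.cancel_right_of_respectsIso]

variable {U : Y.Opens} {hU : IsAffineOpen U} {d : ℕ} {f : 𝒮.presheaf.obj (op U)}
  {hf : f ∈ 𝒮.deg U hU d}
  {θ : CommRingCat.of (HomogeneousLocalization.Away (𝒮.deg U hU) f) ⟶ Γ(X, locus u U d f)}
  (hθ : ∀ (k : ℕ) (s : 𝒮.presheaf.obj (op U)) (hs : s ∈ 𝒮.deg U hU (k • d)),
    strA A (locus u U d f) (θ.hom (HomogeneousLocalization.Away.mk _ hf k s hs)) *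
        ((u.appLE U _ (locus_le u U d f)).hom f) ^ k =
      (u.appLE U _ (locus_le u U d f)).hom s)

variable (u) in
/-- Every function on the locus is some `u s / (u f)^m`. -/
def SurjCond (hU : IsAffineOpen U) (d : ℕ) (f : 𝒮.presheaf.obj (op U)) : Prop :=
  ∀ z : Γ(X, locus u U d f), ∃ (m : ℕ) (_ : 0 < m) (s : 𝒮.presheaf.obj (op U))
    (_ : s ∈ 𝒮.deg U hU (m * d)),
    strA A _ z * ((u.appLE U _ (locus_le u U d f)).hom f) ^ m =
      (u.appLE U _ (locus_le u U d f)).hom s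

variable (u) in
/-- A section with zero image is killed by a power of `f`. -/
def InjCond (hU : IsAffineOpen U) (d : ℕ) (f : 𝒮.presheaf.obj (op U)) : Prop :=
  ∀ (m : ℕ), 0 < m → ∀ s ∈ 𝒮.deg U hU (m * d),
    (u.appLE U _ (locus_le u U d f)).hom s = 0 → ∃ k : ℕ, 0 < k ∧ f ^ k * s = 0

include hθ in
lemma surjective_iff (hA : IsLine A) : Function.Surjective θ.hom ↔ SurjCond u hU d f := by
  constructor
  · intro h z
    obtain ⟨w, rfl⟩ := h z
    obtain ⟨k, s, hs, rfl⟩ := HomogeneousLocalization.Away.mk_surjective (𝒮.deg U hU) hf w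
    refine ⟨k + 1, k.succ_pos, s * f, ?_, ?_⟩
    · rw [add_mul, one_mul]
      exact SetLike.mul_mem_graded hs hf
    · rw [pow_succ, ← mul_assoc, hθ, map_mul]
  · intro h z
    obtain ⟨m, -, s, hs, e⟩ := h z
    exact ⟨_, eq_of_str_mul_pow hA hU hf ((hθ m s hs).trans e.symm)⟩

include hθ in
lemma injective_iff (hA : IsLine A) : Function.Injective θ.hom ↔ InjCond u hU d f := by
  constructor
  · intro h m hm s hs h0
    have e : HomogeneousLocalization.Away.mk _ hf m s hs = 0 := by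
      refine h ?_
      rw [map_zero]
      exact eq_of_str_mul_pow hA hU hf (m := m) (by rw [hθ, h0, map_zero, zero_mul])
    have := congrArg HomogeneousLocalization.val e
    rw [HomogeneousLocalization.Away.val_mk, HomogeneousLocalization.val_zero,
      Localization.mk_eq_mk', IsLocalization.mk'_eq_zero_iff] at this
    obtain ⟨⟨_, k, rfl⟩, hk⟩ := this
    exact ⟨k + 1, k.succ_pos, by
      change f ^ k * s = 0 at hk
      rw [pow_succ, mul_right_comm, hk, zero_mul]⟩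
  · intro h
    rw [injective_iff_map_eq_zero]
    intro w hw
    obtain ⟨k, s, hs, rfl⟩ := HomogeneousLocalization.Away.mk_surjective (𝒮.deg U hU) hf w
    have h0 : (u.appLE U _ (locus_le u U d f)).hom (s * f) = 0 := by
      rw [map_mul, ← hθ k s hs, hw, map_zero, zero_mul, zero_mul]
    obtain ⟨n, -, hn⟩ := h (k + 1) k.succ_pos (s * f)
      (by rw [add_mul, one_mul]; exact SetLike.mul_mem_graded hs hf) h0
    refine HomogeneousLocalization.val_injective _ ?_
    rw [HomogeneousLocalization.Away.val_mk, HomogeneousLocalization.val_zero,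
      Localization.mk_eq_mk', IsLocalization.mk'_eq_zero_iff]
    exact ⟨⟨f ^ (n + 1), n + 1, rfl⟩, by
      show f ^ (n + 1) * s = 0
      rw [← hn]; ring⟩

end Groth.Agent.EgaQ.SymL
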