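import Groth.Agent.EgaQ.SymL.Criteria
import Groth.Agent.EgaQ.VA.Local

/-!
# `r_{L,σ}` for the sections of `L`
-/

universe u

open CategoryTheory CategoryTheory.Limits AlgebraicGeometry TopologicalSpace Opposite
open scoped HomogeneousIdeal

noncomputable section

set_option backward.isDefEq.respectTransparency false

namespace Groth.Agent.EgaQ.SymL

variable {X Y : Scheme.{u}} {A : RelProj.QCGrAlg X} {q : X ⟶ Y} {𝒮 : RelProj.QCGrAlg Y}
  {u : RelProj.QGrHom q 𝒮 A}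
  {P : Scheme.{u}} {p : P ⟶ Y}
  {chart : ∀ (U : Y.Opens) (hU : IsAffineOpen U),
    (((p ⁻¹ᵁ U : P.Opens) : Scheme.{u}) ≅ Proj (𝒮.deg U hU))}
  {PL : Scheme.{u}} {pL : PL ⟶ X}
  {chartL : ∀ (U : X.Opens) (hU : IsAffineOpen U),
    (((pL ⁻¹ᵁ U : PL.Opens) : Scheme.{u}) ≅ Proj (A.deg U hU))}
  {r : ((RelProj.domQ u pL chartL : PL.Opens) : Scheme.{u}) ⟶ P}
  (hA : IsLine A) (hP : RelProj.IsRelProj 𝒮 p chart) (hPL : RelProj.IsRelProj A pL chartL)
  (hr : RelProj.IsProjQMapOn u p chart pL chartL (RelProj.domQ u pL chartL) r)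

include hA hP hPL hr in
/-- Being an immersion can be tested on standard opens covering the image. -/
theorem isImmersion_of_restrict {ι : Type u} (U : ι → Y.Opens) (hU : ∀ a, IsAffineOpen (U a))
    (d : ι → ℕ) (hd : ∀ a, 0 < d a) (f : ∀ a, 𝒮.presheaf.obj (op (U a)))
    (hf : ∀ a, f a ∈ 𝒮.deg (U a) (hU a) (d a)) (hcov : ∀ x, ∃ a, x ∈ locus u (U a) (d a) (f a))
    (himm : ∀ a, IsImmersion (r ∣_ (RelProj.emb p chart (U a) (hU a) ''ᵁ
      Proj.basicOpen (𝒮.deg (U a) (hU a)) (f a)))) :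
    RelProj.domQ u pL chartL = ⊤ ∧ IsImmersion r := by
  refine ⟨domQ_eq_top_of_exists hA hPL fun x ↦ ?_, ?_⟩
  · obtain ⟨a, ha⟩ := hcov x
    exact ⟨U a, hU a, d a, f a, hd a, hf a, ha⟩
  exact IsZariskiLocalAtTarget.of_range_subset_iSup _
    (range_subset_iSup hA hP hPL hr U hU d hd f hf hcov) himm

/-- A larger ring of functions still embeds. -/
lemma isImmersion_restrict_of_subring (hA : IsLine A) (hP : RelProj.IsRelProj 𝒮 p chart)
    (hPL : RelProj.IsRelProj A pL chartL)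
    (hr : RelProj.IsProjQMapOn u p chart pL chartL (RelProj.domQ u pL chartL) r)
    {U : Y.Opens} (hU : IsAffineOpen U) {d : ℕ} (hd : 0 < d) {f : 𝒮.presheaf.obj (op U)}
    (hf : f ∈ 𝒮.deg U hU d) {G : X.Opens} (hG : locus u U d f = G) (hGU : G ≤ q ⁻¹ᵁ U)
    (S : Subring Γ(X, G))
    (hS : ∀ z ∈ S, ∃ (m : ℕ) (s : 𝒮.presheaf.obj (op U)), s ∈ 𝒮.deg U hU (m * d) ∧
      strA A G z * ((u.appLE U G hGU).hom f) ^ m = (u.appLE U G hGU).hom s)
    (himm : IsImmersion (G.toSpecΓ ≫ Spec.map (CommRingCat.ofHom S.subtype))) :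
    IsImmersion (r ∣_ (RelProj.emb p chart U hU ''ᵁ Proj.basicOpen (𝒮.deg U hU) f)) := by
  subst hG
  obtain ⟨θ, hθ, harr⟩ := exists_theta hA hP hPL hr hU hd hf
  rw [harr @IsImmersion]
  refine VA.isImmersion_of_subring_ge θ.hom.range θ (fun a ha ↦ ha) (fun b ↦ ⟨b, rfl⟩) ?_
  refine VA.isImmersion_of_subring_le le_rfl (CommRingCat.ofHom S.subtype) _ (fun a ↦ ?_) himm
  obtain ⟨z, hz⟩ := a
  obtain ⟨m, s, hs, e⟩ := hS z hz
  refine ⟨HomogeneousLocalization.Away.mk _ hf m s hs, ?_⟩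
  rw [show AModX.resR (le_refl (locus u U d f)) = RingHom.id _ from by ext b; simp [AModX.resR]]
  exact eq_of_str_mul_pow hA hU hf ((hθ m s hs).trans e.symm)

section sections

variable {L : X.Modules} {jL : L ⟶ A.toModule} {jE : (Scheme.Modules.pushforward q).obj L ⟶ 𝒮.toModule}

lemma appLE_jE (hu : ∀ (U : Y.Opens) (x : Γ((Scheme.Modules.pushforward q).obj L, U)),
      (u.app U).hom ((jE.app U) x) = (jL.app (q ⁻¹ᵁ U)) x)
    {U : Y.Opens} {V : X.Opens} (h : V ≤ q ⁻¹ᵁ U) (x : Γ((Scheme.Modules.pushforward q).obj L, U)) :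
    (u.appLE U V h).hom ((jE.app U) x) =
      Eg2Sym.jApp (A := A.toQCAlg) jL V
        (Eg2Bundle.sec q (𝟙 ((Scheme.Modules.pushforward q).obj L)) h x) := by
  show resA A h ((u.app U).hom ((jE.app U) x)) = _
  rw [hu]
  exact Eg2Sym.jApp_res (A := A.toQCAlg) jL (homOfLE h) x

lemma locus_eq_fLoc (hLq : Coh.IsQCoh L) (hL : PicF.IsInvertible L)
    (hjL : RelProj.IsGrSymAlg L A jL)
    (hu : ∀ (U : Y.Opens) (x : Γ((Scheme.Modules.pushforward q).obj L, U)),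
      (u.app U).hom ((jE.app U) x) = (jL.app (q ⁻¹ᵁ U)) x)
    (U : Y.Opens) (e : Γ((Scheme.Modules.pushforward q).obj L, U)) :
    locus u U 1 ((jE.app U) e) = VA.fLoc (𝟙 ((Scheme.Modules.pushforward q).obj L)) e := by
  set σ := 𝟙 ((Scheme.Modules.pushforward q).obj L)
  refine le_antisymm (fun x hx ↦ ?_) fun x hx ↦ ?_
  · have hxU : x ∈ q ⁻¹ᵁ U := locus_le u U 1 _ hx
    obtain ⟨O, hxO, e₀, he₀⟩ := InvX.exists_frame hL x
    obtain ⟨_, ⟨V, hV, rfl⟩, hxV, hVle⟩ := X.isBasis_affineOpens.exists_subset_of_mem_open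
      (show x ∈ q ⁻¹ᵁ U ⊓ O from ⟨hxU, hxO⟩) (q ⁻¹ᵁ U ⊓ O).isOpen
    have hVU : V ≤ q ⁻¹ᵁ U := fun y hy ↦ (hVle hy).1
    have hVO : V ≤ O := fun y hy ↦ (hVle hy).2
    obtain ⟨c, hc⟩ := (he₀.res hVO).exists_coord le_rfl (Eg2Bundle.sec q σ hVU e)
    rw [AModX.res_self] at hc
    have hl := isLineAt_of_frame hLq hjL hV (he₀.res hVO)
    have hcoef : (u.appLE U V hVU).hom ((jE.app U) e) =
        strA A V c * (Eg2Sym.jApp (A := A.toQCAlg) jL V (AModX.res L hVO e₀)) ^ 1 := by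
      rw [appLE_jE hu hVU, hc, Eg2Sym.jApp_smul, pow_one]
    have hxc := (mem_locus_iff u hl hVU hcoef hxV).mp hx
    refine VA.le_fLoc σ ((X.basicOpen_le c).trans hVU) ?_ hxc
    rw [← Eg2Bundle.res_sec q σ hVU (X.basicOpen_le c), hc, AModX.res_smul]
    exact ((he₀.res hVO).res _).isUnit_smul (RingedSpace.isUnit_res_basicOpen _ c)
  · obtain ⟨_, ⟨V, hV, rfl⟩, hxV, hVle⟩ :=
      X.isBasis_affineOpens.exists_subset_of_mem_open hx (VA.fLoc σ e).isOpen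
    have hVU : V ≤ q ⁻¹ᵁ U := le_trans hVle (VA.fLoc_le σ e)
    have hfr := VA.isFrame_sec σ hVU hVle
    have hl := isLineAt_of_frame hLq hjL hV hfr
    refine (mem_locus_iff u hl hVU (c := 1) ?_ hxV).mpr ?_
    · rw [appLE_jE hu hVU, map_one, one_mul, pow_one]
    · rw [Scheme.basicOpen_of_isUnit X isUnit_one]; exact hxV

include hA hP hPL hr in
/-- If some sections of `L` embed then `r_{L,σ}` is an immersion. -/
theorem isImmersion_of_emb (hLq : Coh.IsQCoh L) (hL : PicF.IsInvertible L)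
    (hjL : RelProj.IsGrSymAlg L A jL)
    (hjE : RelProj.IsGrSymAlg ((Scheme.Modules.pushforward q).obj L) 𝒮 jE)
    (hu : ∀ (U : Y.Opens) (x : Γ((Scheme.Modules.pushforward q).obj L, U)),
      (u.app U).hom ((jE.app U) x) = (jL.app (q ⁻¹ᵁ U)) x)
    (hσ : VA.Emb (𝟙 ((Scheme.Modules.pushforward q).obj L))) :
    RelProj.domQ u pL chartL = ⊤ ∧ IsImmersion r := by
  choose U hU e hx himm using hσ
  refine isImmersion_of_restrict hA hP hPL hr U hU (fun _ ↦ 1) (fun _ ↦ one_pos)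
    (fun x ↦ (jE.app (U x)) (e x)) (fun x ↦ hjE.2 (U x) (hU x) (e x))
    (fun x ↦ ⟨x, (locus_eq_fLoc hLq hL hjL hu _ _).ge (hx x)⟩) fun x ↦ ?_
  set σ := 𝟙 ((Scheme.Modules.pushforward q).obj L)
  have hGU : VA.fLoc σ (e x) ≤ q ⁻¹ᵁ U x := VA.fLoc_le σ (e x)
  refine isImmersion_restrict_of_subring hA hP hPL hr (hU x) one_pos (hjE.2 _ (hU x) (e x))
    (locus_eq_fLoc hLq hL hjL hu _ _) hGU (VA.coordRing σ (e x)) ?_ (himm x)
  set G := VA.fLoc σ (e x)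
  let t := (u.appLE (U x) G hGU).hom ((jE.app (U x)) (e x))
  intro z hz
  induction hz using Subring.closure_induction with
  | mem z hz =>
    rcases hz with ⟨a, rfl⟩ | ⟨y, hy⟩
    · refine ⟨0, strA 𝒮 (U x) a, by simpa using 𝒮.str_mem (U x) (hU x) a, ?_⟩
      rw [pow_zero, mul_one, appLE_str]
    · refine ⟨1, (jE.app (U x)) y, by rw [one_mul]; exact hjE.2 _ (hU x) y, ?_⟩
      rw [pow_one, appLE_jE hu hGU, appLE_jE hu hGU, hy, Eg2Sym.jApp_smul]
  | zero => exact ⟨0, 0, zero_mem _, by rw [map_zero, zero_mul, map_zero]⟩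
  | one =>
    exact ⟨0, 1, by rw [zero_mul]; exact SetLike.one_mem_graded _,
      by rw [map_one, one_mul, pow_zero, map_one]⟩
  | add a b _ _ ha hb =>
    obtain ⟨m, s, hs, ea⟩ := ha
    obtain ⟨m', s', hs', eb⟩ := hb
    let f : 𝒮.presheaf.obj (op (U x)) := (jE.app (U x)) (e x)
    have hpow : ∀ n : ℕ, f ^ n ∈ 𝒮.deg (U x) (hU x) (n * 1) := fun n ↦ by
      simpa using SetLike.pow_mem_graded n (show f ∈ 𝒮.deg (U x) (hU x) 1 from hjE.2 _ (hU x) (e x))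
    refine ⟨m + m', s * f ^ m' + f ^ m * s', ?_, ?_⟩
    · rw [add_mul]
      exact add_mem (SetLike.mul_mem_graded hs (hpow m')) (SetLike.mul_mem_graded (hpow m) hs')
    · rw [map_add, map_add, map_mul, map_mul, map_pow, map_pow, ← ea, ← eb]
      ring
  | neg a _ ha =>
    obtain ⟨m, s, hs, ea⟩ := ha
    exact ⟨m, -s, neg_mem hs, by rw [map_neg, map_neg, ← ea, neg_mul]⟩
  | mul a b _ _ ha hb =>
    obtain ⟨m, s, hs, ea⟩ := ha
    obtain ⟨m', s', hs', eb⟩ := hb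
    refine ⟨m + m', s * s', ?_, ?_⟩
    · rw [add_mul]; exact SetLike.mul_mem_graded hs hs'
    · rw [map_mul, map_mul, ← ea, ← eb]
      ring

end sections

end Groth.Agent.EgaQ.SymL
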